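import Groth.Agent.ThetaStack.Pairs
import Groth.Agent.IsoCls.FpSections
import Groth.Agent.StFib.RepProps
import Groth.Prelude.Def_AlgSt3

/-!
Factorisations through an affine morphism over a scheme are the points of an affine scheme over it.
-/

set_option autoImplicit false
set_option linter.unusedVariables false
set_option backward.isDefEq.respectTransparency false
set_option backward.isDefEq.respectTransparency.types false

universe u

open CategoryTheory CategoryTheory.Limits AlgebraicGeometry Opposite FibCat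

namespace Groth.Agent.ThetaStack

open Groth.Agent.StFib Groth.Agent.IsoCls

variable {S : Scheme.{u}} {ℬ 𝒳 𝒴 : AlgSt.Cat S}

/-- The scheme of factorisations over a chart, with its dictionary. -/
structure Dict (bot : ℬ ⥤ᵇ 𝒴) (f : 𝒳 ⥤ᵇ 𝒴) {W : Over S} (G : overCat W ⥤ᵇ ℬ) where
  /-- the scheme -/
  Z : Over S
  /-- its projection -/
  π : Z ⟶ W
  affine : IsAffineHom π.left
  /-- the factorisation attached to a point -/
  P : ∀ (w : (overCat W).obj) (s : Over.left w ⟶ Z), s ≫ π = Over.hom w → Pair bot f (G.obj w)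
  surj : ∀ (w : (overCat W).obj) (Q : Pair bot f (G.obj w)), ∃ s hs, Rel (𝟙 _) (P w s hs) Q
  inj : ∀ (w : (overCat W).obj) s s' hs hs', Rel (𝟙 _) (P w s hs) (P w s' hs') → s = s'
  nat : ∀ {w' w : (overCat W).obj} (κ : w' ⟶ w) s hs hs',
    Rel (G.map κ) (P w' (κ.left ≫ s) hs') (P w s hs)

theorem exists_dict (P : MorphismProperty Scheme.{u}) (hPaff : ∀ {X Y : Scheme.{u}} (φ : X ⟶ Y), P φ → IsAffineHom φ)
    (h𝒳 : IsFibGrpd 𝒳.p) (h𝒴 : IsFibGrpd 𝒴.p) (bot : ℬ ⥤ᵇ 𝒴) (f : 𝒳 ⥤ᵇ 𝒴)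
    (hf : AlgSt.RepByAlgSpWith (AlgSp.RepWith P) f) {W : Over S}
    (G : overCat W ⥤ᵇ ℬ) : ∃ D : Dict bot f G, P D.π.left := by
  obtain ⟨A, e, he, hP⟩ := hf W (BasedFunctor.comp G bot)
  obtain ⟨zo, Wz, hWz, hsurj, hinj, hnat⟩ := exists_fpSections (BasedFunctor.comp G bot) f A e he
  let a := AlgSt.spMapOfOver (BasedFunctor.comp e (fpFst (BasedFunctor.comp G bot) f))
  obtain ⟨Z, π, fst', sq⟩ := hP.1 (𝟙 ((AlgSp.yon S).obj W))
  have hπP : P π.left := hP.2 _ fst' π sq
  have hπ : IsAffineHom π.left := hPaff _ hπP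
  have : IsIso fst' := sq.isIso_fst_of_isIso
  have hfst : fst' ≫ a = (AlgSp.yon S).map π := by
    have := sq.w
    simp only [Category.comp_id] at this
    exact this
  let toSec : ∀ (w : (overCat W).obj) (s : Over.left w ⟶ Z), s ≫ π = Over.hom w → Sec a w :=
    fun w s hs => ⟨(AlgSp.yon S).map s ≫ fst', by rw [Category.assoc, hfst, ← Functor.map_comp, hs]⟩
  refine ⟨{
    Z := Z
    π := π
    affine := hπ
    P := fun w s hs =>
      { x := (zo w (toSec w s hs)).obj.snd
        e := bot.map (G.map (Wz w (toSec w s hs)).inv) ≫ (zo w (toSec w s hs)).obj.iso.hom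
        vert := (((hWz w _).inv.map G).map bot).comp (vert_fp_iso _) }
    surj := fun w Q => ?_
    inj := fun w s s' hs hs' h => ?_
    nat := fun {w' w} κ s hs hs' => ?_ }, hπP⟩
  · have := Q.vert.isIso h𝒴
    obtain ⟨r, m, hm⟩ := hsurj w
      (fpMk (F := BasedFunctor.comp G bot) (G := f) w Q.x (asIso Q.e) Q.vert) rfl
    let s : Over.left w ⟶ Z := (AlgSp.yon S).preimage (r.1 ≫ inv fst')
    have hs : s ≫ π = Over.hom w := (AlgSp.yon S).map_injective (by
      rw [Functor.map_comp, Functor.map_preimage, ← hfst, Category.assoc, IsIso.inv_hom_id_assoc]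
      exact r.2)
    have hr : toSec w s hs = r := Subtype.ext (by
      change (AlgSp.yon S).map s ≫ fst' = r.1
      rw [Functor.map_preimage, Category.assoc, IsIso.inv_hom_id, Category.comp_id])
    clear_value s
    subst hr
    refine ⟨s, hs, m.hom.hom.snd, ?_⟩
    have hmf : m.hom.hom.fst = (Wz w (toSec w s hs)).hom := by
      obtain ⟨_, h1⟩ := vert_fp_iff.1 hm
      obtain ⟨_, h2⟩ := hWz w (toSec w s hs)
      exact Over.OverMorphism.ext (h1.trans h2.symm)
    have hw : bot.map (G.map m.hom.hom.fst) ≫ Q.e =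
        (zo w (toSec w s hs)).obj.iso.hom ≫ f.map m.hom.hom.snd := m.hom.hom.w
    rw [Category.assoc, ← hw, hmf, CategoryTheory.Functor.map_id, Category.id_comp, ← Category.assoc,
      ← Functor.map_comp, ← Functor.map_comp, Iso.inv_hom_id, CategoryTheory.Functor.map_id,
      CategoryTheory.Functor.map_id, Category.id_comp]
  · obtain ⟨ψ, hψ⟩ := h
    rw [CategoryTheory.Functor.map_id, Category.id_comp, Category.assoc] at hψ
    let Z' : zo w (toSec w s hs) ⟶ zo w (toSec w s' hs') :=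
      StFib.fpHom ((Wz w _).hom ≫ (Wz w _).inv) ψ (by
        change bot.map (G.map ((Wz w _).hom ≫ (Wz w _).inv)) ≫ _ = _
        rw [Functor.map_comp, Functor.map_comp, Category.assoc]
        refine (congrArg (bot.map (G.map (Wz w (toSec w s hs)).hom) ≫ ·) hψ.symm).trans ?_
        rw [← Functor.map_comp_assoc, ← Functor.map_comp, Iso.hom_inv_id,
          CategoryTheory.Functor.map_id, CategoryTheory.Functor.map_id, Category.id_comp])
    have h := congrArg Subtype.val
      (hinj w _ _ Z' (vert_fp_iff.2 ((hWz w _).comp (hWz w _).inv)))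
    exact (AlgSp.yon S).map_injective ((cancel_mono fst').1 h)
  · obtain ⟨Z', hZ⟩ := hnat κ (toSec w s hs) (toSec w' (κ.left ≫ s) hs')
      (by change (AlgSp.yon S).map (κ.left ≫ s) ≫ fst' = _; rw [Functor.map_comp, Category.assoc])
    refine ⟨Z'.hom.snd, ?_⟩
    have hw : bot.map (G.map Z'.hom.fst) ≫ (zo w (toSec w s hs)).obj.iso.hom =
        (zo w' (toSec w' (κ.left ≫ s) hs')).obj.iso.hom ≫ f.map Z'.hom.snd := Z'.hom.w
    have hk : G.map κ ≫ G.map (Wz w (toSec w s hs)).inv =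
        G.map (Wz w' (toSec w' (κ.left ≫ s) hs')).inv ≫ G.map Z'.hom.fst := by
      rw [← Functor.map_comp, ← Functor.map_comp]
      refine congrArg G.map ?_
      exact ((Iso.comp_inv_eq _).2 (hZ.symm.trans (Category.assoc _ _ _).symm))
    rw [Category.assoc, ← hw, ← Functor.map_comp_assoc, ← hk, Functor.map_comp_assoc]

theorem nonempty_dict (h𝒳 : IsFibGrpd 𝒳.p) (h𝒴 : IsFibGrpd 𝒴.p) (bot : ℬ ⥤ᵇ 𝒴) (f : 𝒳 ⥤ᵇ 𝒴)
    (hf : AlgSt.RepByAlgSpWith (AlgSp.RepWith @IsAffineHom) f) {W : Over S}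
    (G : overCat W ⥤ᵇ ℬ) : Nonempty (Dict bot f G) :=
  let ⟨D, _⟩ := exists_dict @IsAffineHom (fun _ h => h) h𝒳 h𝒴 bot f hf G
  ⟨D⟩

end Groth.Agent.ThetaStack
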