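import Groth.Agent.ThetaStack.Descent
import Groth.Agent.ThetaStack.Dict
import Groth.Agent.StFib.DiagConv
import Groth.Agent.StFib.Fp
import Mathlib.AlgebraicGeometry.Morphisms.SchemeTheoreticallyDominant

/-!
Factorisations through a separated representable morphism which agree on a dense open agree.
-/

set_option autoImplicit false
set_option linter.unusedVariables false
set_option linter.unusedSectionVars false
set_option backward.isDefEq.respectTransparency false
set_option backward.isDefEq.respectTransparency.types false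

universe u

open CategoryTheory CategoryTheory.Limits AlgebraicGeometry Opposite FibCat
open CategoryTheory.Functor Groth.Agent.FibC

namespace Groth.Agent.ThetaStack

open Groth.Agent.StFib Groth.Agent.IsoCls

/-- A closed subscheme of an affine scheme through which a schematically dominant morphism
factors is the whole scheme. -/
theorem isIso_of_closedImmersion {X Z Y : Scheme.{u}} [IsAffine X] (π : Z ⟶ X) [IsClosedImmersion π]
    {j : Y ⟶ X} (hj : Function.Injective j.appTop) (s : Y ⟶ Z) (hs : s ≫ π = j) : IsIso π := by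
  have : IsAffine Z := isAffine_of_isAffineHom π
  have hsurj : Function.Surjective π.appTop := π.app_surjective ⊤ (isAffineOpen_top X)
  have hinj : Function.Injective π.appTop := by
    intro p q hpq
    refine hj ?_
    rw [← hs, Scheme.Hom.comp_appTop, CommRingCat.comp_apply, CommRingCat.comp_apply, hpq]
  have : IsIso π.appTop := (ConcreteCategory.isIso_iff_bijective _).2 ⟨hinj, hsurj⟩
  exact (HasAffineProperty.iff_of_isAffine (P := MorphismProperty.isomorphisms Scheme.{u})).2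
    ⟨inferInstance, this⟩

variable {S : Scheme.{u}} {ℬ 𝒳 𝒴 : AlgSt.Cat S} {f : 𝒳 ⥤ᵇ 𝒴} {bot : ℬ ⥤ᵇ 𝒴}

/-- Two factorisations through a separated representable morphism agree if they agree after a
morphism through which no proper closed subscheme factors. -/
theorem rel_of_rel_closed (h𝒳 : IsFibGrpd 𝒳.p) (h𝒴 : IsFibGrpd 𝒴.p)
    (hdiag : AlgSt.IsClosedImm (diag f)) {ξ : ℬ.obj}
    (P P' : Pair bot f ξ) {zU : ℬ.obj} (m : zU ⟶ ξ)
    (hj : ∀ {Z : Scheme.{u}} (π : Z ⟶ (ℬ.p.obj ξ).left) [IsClosedImmersion π] (s : (ℬ.p.obj zU).left ⟶ Z),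
      s ≫ π = (ℬ.p.map m).left → IsIso π)
    (R : Pair bot f zU) (h : Rel m R P) (h' : Rel m R P') : Rel (𝟙 ξ) P P' := by
  obtain ⟨ψ, hψ⟩ := h
  obtain ⟨ψ', hψ'⟩ := h'
  have := P.vert.isIso h𝒴
  have := P'.vert.isIso h𝒴
  have := R.vert.isIso h𝒴
  have hfp : IsFibGrpd (fp f f).p := isFibGrpd_fp h𝒳 h𝒳 h𝒴 f f
  let z : (fp f f).obj := fpMk (F := f) (G := f) P.x P'.x ((asIso P.e).symm ≪≫ asIso P'.e)
    ((P.vert.inv).comp P'.vert)
  let r : (fp f f).obj := (diag f).obj R.x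
  let μ : r ⟶ z := StFib.fpHom ψ ψ' (by
    change f.map ψ ≫ inv P.e ≫ P'.e = 𝟙 _ ≫ f.map ψ'
    rw [Category.id_comp, ← cancel_epi R.e, hψ', reassoc_of% hψ, IsIso.hom_inv_id_assoc])
  have hz : (fp f f).p.obj z = ℬ.p.obj ξ := P.base
  obtain ⟨G, e₀, he₀⟩ := exists_overLift_fibGrpd hfp z hz
  obtain ⟨D, hD⟩ := exists_dict @IsClosedImmersion (fun φ hφ => have := hφ; inferInstance) h𝒳 hfp
    (BasedFunctor.id (fp f f)) (diag f) hdiag G
  have : IsClosedImmersion D.π.left := hD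
  let wT := overTop (ℬ.p.obj ξ)
  let w : (overCat (ℬ.p.obj ξ)).obj := Over.mk (ℬ.p.map m)
  let M : G.obj w ⟶ z := G.map (toTop w) ≫ e₀.hom
  have hM : (fp f f).p.IsHomLift ((toTop w).left ≫ 𝟙 (ℬ.p.obj ξ)) M :=
    lift_comp (map_lift G (toTop w)) he₀
  have hμ : (fp f f).p.map μ = 𝒳.p.map ψ := by rfl
  have hbase : (fp f f).p.obj r = (fp f f).p.obj (G.obj w) :=
    R.base.trans (G.w_obj w).symm
  obtain ⟨k, hk, hkM⟩ := grpd_exists_fac hfp μ M (eqToHom hbase.symm) (by
    rw [IsHomLift.fac' (fp f f).p ((toTop w).left ≫ 𝟙 (ℬ.p.obj ξ)) M, hμ, map_of_eq hψ]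
    simp [w, toTop])
  let Q : Pair (BasedFunctor.id (fp f f)) (diag f) (G.obj w) :=
    ⟨R.x, k, ⟨hbase.symm, hk⟩⟩
  obtain ⟨sU, hsU, -⟩ := D.surj w Q
  have hsU' : sU.left ≫ D.π.left = (ℬ.p.map m).left := congrArg Over.Hom.left hsU
  have : IsIso D.π.left := hj D.π.left sU.left hsU'
  have : IsIso ((Over.forget S).map D.π) := ‹IsIso D.π.left›
  have : IsIso D.π := isIso_of_reflects_iso D.π (Over.forget S)
  let P₀ := D.P wT (inv D.π) (IsIso.inv_hom_id D.π)
  have := P₀.vert.isIso hfp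
  let E : z ⟶ (diag f).obj P₀.x := e₀.inv ≫ P₀.e
  have : IsIso E := inferInstanceAs (IsIso (e₀.inv ≫ P₀.e))
  let u : P.x ⟶ P₀.x := E.hom.fst
  let u' : P'.x ⟶ P₀.x := E.hom.snd
  have : IsIso u' := inferInstanceAs (IsIso ((fpSnd f f).map E))
  have hw : f.map u ≫ 𝟙 _ = (inv P.e ≫ P'.e) ≫ f.map u' := E.hom.w
  refine ⟨u ≫ inv u', ?_⟩
  rw [Category.comp_id, Category.assoc] at hw
  rw [CategoryTheory.Functor.map_id, Category.id_comp, Functor.map_comp, hw]
  simp only [Category.assoc, IsIso.hom_inv_id_assoc, ← Functor.map_comp, IsIso.hom_inv_id,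
    CategoryTheory.Functor.map_id, Category.comp_id]

/-- Two factorisations through a separated representable morphism agree if they agree after a
schematically dominant morphism of affine base. -/
theorem rel_of_rel_open (h𝒳 : IsFibGrpd 𝒳.p) (h𝒴 : IsFibGrpd 𝒴.p)
    (hdiag : AlgSt.IsClosedImm (diag f)) {ξ : ℬ.obj} [IsAffine (ℬ.p.obj ξ).left]
    (P P' : Pair bot f ξ) {zU : ℬ.obj} (m : zU ⟶ ξ) (hj : Function.Injective (ℬ.p.map m).left.appTop)
    (R : Pair bot f zU) (h : Rel m R P) (h' : Rel m R P') : Rel (𝟙 ξ) P P' :=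
  rel_of_rel_closed h𝒳 h𝒴 hdiag P P' m (fun π _ s hs => isIso_of_closedImmersion π hj s hs) R h h'

/-- The same for a scheme-theoretically dominant morphism. -/
theorem rel_of_rel_schDom (h𝒳 : IsFibGrpd 𝒳.p) (h𝒴 : IsFibGrpd 𝒴.p)
    (hdiag : AlgSt.IsClosedImm (diag f)) {ξ : ℬ.obj}
    (P P' : Pair bot f ξ) {zU : ℬ.obj} (m : zU ⟶ ξ) (hj : IsSchemeTheoreticallyDominant (ℬ.p.map m).left)
    (R : Pair bot f zU) (h : Rel m R P) (h' : Rel m R P') : Rel (𝟙 ξ) P P' :=
  rel_of_rel_closed h𝒳 h𝒴 hdiag P P' m (fun π _ s hs => IsClosedImmersion.isIso_iff_ker_eq_bot.2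
    (le_bot_iff.1 ((Scheme.Hom.le_ker_comp s π).trans_eq (by rw [hs]; exact hj.ker_eq_bot)))) R h h'

end Groth.Agent.ThetaStack
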