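import Groth.Prelude.Def_ThetaS
import Mathlib.AlgebraicGeometry.Morphisms.Flat
import Mathlib.AlgebraicGeometry.ResidueField
import Mathlib.RingTheory.Polynomial.Basic
import Mathlib.RingTheory.DiscreteValuationRing.Basic

/-!
The opens of the line and of the two-branched curve stable under the multiplicative group, and their
regular sequences.
-/

set_option autoImplicit false
set_option linter.unusedVariables false
set_option backward.isDefEq.respectTransparency false
set_option backward.isDefEq.respectTransparency.types false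

universe u

open CategoryTheory AlgebraicGeometry MonoidalCategory CartesianMonoidalCategory

namespace Groth.Agent.ThetaStack

open ThetaS

variable {R : Type u} [CommRing R]

theorem sp_hom (B : Type u) [CommRing B] [Algebra R B] :
    (CoactBr.sp R B).hom = Spec.map (CommRingCat.ofHom (algebraMap R B)) :=
  specOverSpec_over

theorem exists_pt_eq {B K : Type u} [CommRing B] [Algebra R B] [CommRing K] [Algebra R K]
    (g : CoactBr.sp R K ⟶ CoactBr.sp R B) : ∃ φ : B →ₐ[R] K, CoactBr.pt φ = g := by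
  have hw := Over.w g
  rw [sp_hom, sp_hom, ← Spec.map_preimage g.left, ← Spec.map_comp] at hw
  have hc := Spec.map_injective hw
  refine ⟨{ (Spec.preimage g.left).hom with
    commutes' := fun r => congrArg (fun t => t.hom r) hc }, ?_⟩
  apply Over.OverMorphism.ext
  rw [CoactBr.pt_left]
  exact Spec.map_preimage g.left

theorem pt_mem_basicOpen_iff {B K : Type u} [CommRing B] [Algebra R B] [Field K] [Algebra R K]
    (φ : B →ₐ[R] K) (q : B) (x : (CoactBr.sp R K).left) :
    (CoactBr.pt φ).left x ∈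
        (CoactBr.sp R B).left.basicOpen ((Scheme.ΓSpecIso (CommRingCat.of B)).inv q) ↔ φ q ≠ 0 := by
  change (CoactBr.pt φ).left x ∈ (Spec (CommRingCat.of B)).basicOpen _ ↔ _
  rw [basicOpen_eq_of_affine]
  have hx : (x : PrimeSpectrum K).asIdeal = ⊥ :=
    (Ideal.eq_bot_or_top _).resolve_right (x : PrimeSpectrum K).isPrime.ne_top
  change φ q ∉ (x : PrimeSpectrum K).asIdeal ↔ _
  rw [hx, Ideal.mem_bot]

theorem exists_pts (B : Type u) [CommRing B] [Algebra R B]
    (p : (ThetaS.Gm R ⊗ CoactBr.sp R B).left) :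
    ∃ (K : Type u) (_ : Field K) (_ : Algebra R K) (lam : Lau R →ₐ[R] K) (φ : B →ₐ[R] K)
      (x : (CoactBr.sp R K).left), (lift (CoactBr.pt lam) (CoactBr.pt φ)).left x = p := by
  let W := (ThetaS.Gm R ⊗ CoactBr.sp R B).left
  let K := W.residueField p
  let str : Spec K ⟶ Spec (CommRingCat.of R) :=
    W.fromSpecResidueField p ≫ (ThetaS.Gm R ⊗ CoactBr.sp R B).hom
  let : Algebra R K := (Spec.preimage str).hom.toAlgebra
  have hK : (CoactBr.sp R K).hom = str := by
    rw [sp_hom]
    exact Spec.map_preimage str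
  let ι : CoactBr.sp R K ⟶ ThetaS.Gm R ⊗ CoactBr.sp R B :=
    Over.homMk (W.fromSpecResidueField p) hK.symm
  obtain ⟨lam, hlam⟩ : ∃ lam : Lau R →ₐ[R] K, CoactBr.pt lam = ι ≫ fst _ _ :=
    exists_pt_eq (B := Lau R) (ι ≫ fst _ _)
  obtain ⟨φ, hφ⟩ := exists_pt_eq (ι ≫ snd _ _)
  refine ⟨K, inferInstance, inferInstance, lam, φ, IsLocalRing.closedPoint K, ?_⟩
  rw [hlam, hφ, ← comp_lift, lift_fst_snd, Category.comp_id]
  exact W.fromSpecResidueField_apply p _

theorem lam_ne_zero {K : Type u} [Field K] [Algebra R K] (lam : Lau R →ₐ[R] K) (n : ℤ) :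
    lam (zPow R n) ≠ 0 := fun h => by
  have := congrArg lam (zPow_mul R n (-n))
  rw [map_mul, h, zero_mul, add_neg_cancel, zPow_zero, map_one] at this
  exact zero_ne_one this

theorem act_snd_pt {B K : Type u} [CommRing B] [Algebra R B] [CommRing K] [Algebra R K]
    (aX : AlgGrp.Action (ThetaS.Gm R) (CoactBr.sp R B)) (lam : Lau R →ₐ[R] K) (φ : B →ₐ[R] K)
    (x : (CoactBr.sp R K).left) :
    (snd (ThetaS.Gm R) (CoactBr.sp R B)).left ((lift (CoactBr.pt lam) (CoactBr.pt φ)).left x) =
        (CoactBr.pt φ).left x ∧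
      aX.act.left ((lift (CoactBr.pt lam) (CoactBr.pt φ)).left x) =
        (lift (CoactBr.pt lam) (CoactBr.pt φ) ≫ aX.act).left x := by
  refine ⟨?_, rfl⟩
  rw [← Scheme.Hom.comp_apply, ← Over.comp_left]
  exact congrArg (fun t : CoactBr.sp R K ⟶ CoactBr.sp R B => t.left x)
    (lift_snd (CoactBr.pt lam) (CoactBr.pt φ))

/-- The complement of the origin is stable under scaling. -/
theorem line_invariant (ϖ : R) (p : (ThetaS.Gm R ⊗ Line R).left) :
    (lineAction R).act.left p ∈ (Line R).left.basicOpen (lineFn Polynomial.X) ⊔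
        (Line R).left.basicOpen (lineFn (Polynomial.C ϖ)) ↔
      (snd (ThetaS.Gm R) (Line R)).left p ∈ (Line R).left.basicOpen (lineFn Polynomial.X) ⊔
        (Line R).left.basicOpen (lineFn (Polynomial.C ϖ)) := by
  obtain ⟨K, _, _, lam, φ, x, rfl⟩ := exists_pts (Polynomial R) p
  rw [(act_snd_pt (lineAction R) lam φ x).1, (act_snd_pt (lineAction R) lam φ x).2]
  obtain ⟨a, rfl⟩ : ∃ a, linePt a = φ :=
    ⟨φ Polynomial.X, Polynomial.algHom_ext (Polynomial.aeval_X _)⟩
  rw [lineAction_pt]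
  simp only [TopologicalSpace.Opens.mem_sup]
  rw [pt_mem_basicOpen_iff, pt_mem_basicOpen_iff, pt_mem_basicOpen_iff, pt_mem_basicOpen_iff,
    Polynomial.aeval_X, Polynomial.aeval_X, Polynomial.aeval_C, Polynomial.aeval_C, mul_ne_zero_iff]
  simp [lam_ne_zero lam]

/-- The complement of the node is stable. -/
theorem st_invariant (π : R) (p : (ThetaS.Gm R ⊗ STSch R π).left) :
    (stAction R π).act.left p ∈ (STSch R π).left.basicOpen (stFn (sFn R π)) ⊔
        (STSch R π).left.basicOpen (stFn (tFn R π)) ↔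
      (snd (ThetaS.Gm R) (STSch R π)).left p ∈ (STSch R π).left.basicOpen (stFn (sFn R π)) ⊔
        (STSch R π).left.basicOpen (stFn (tFn R π)) := by
  obtain ⟨K, _, _, lam, φ, x, rfl⟩ := exists_pts (STRing R π) p
  rw [(act_snd_pt (stAction R π) lam φ x).1, (act_snd_pt (stAction R π) lam φ x).2]
  obtain ⟨a, b, hab, rfl⟩ : ∃ a b, ∃ hab : a * b = algebraMap R K π, stPt a b hab = φ :=
    ⟨φ (sFn R π), φ (tFn R π), by rw [← map_mul, sFn_mul_tFn, AlgHom.commutes],
      stRing_algHom_ext (stPt_sFn _ _ _) (stPt_tFn _ _ _)⟩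
  rw [stAction_pt]
  simp only [TopologicalSpace.Opens.mem_sup]
  rw [pt_mem_basicOpen_iff, pt_mem_basicOpen_iff, pt_mem_basicOpen_iff, pt_mem_basicOpen_iff,
    stPt_sFn, stPt_sFn, stPt_tFn, stPt_tFn, mul_ne_zero_iff, mul_ne_zero_iff]
  simp [lam_ne_zero lam]

instance flat_Gm : Flat (ThetaS.Gm R).hom := by
  change Flat (CoactBr.sp R (Lau R)).hom
  rw [sp_hom, Flat.SpecMap_iff]
  exact RingHom.flat_algebraMap_iff.2 inferInstance

instance isAffineHom_Gm : IsAffineHom (ThetaS.Gm R).hom := by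
  change IsAffineHom (CoactBr.sp R (Lau R)).hom
  rw [sp_hom]
  have : IsAffine (CoactBr.sp R (Lau R)).left := isAffine_Spec _
  exact isAffineHom_of_isAffine _

/-- Conditions on a pair of functions on an affine scheme from the corresponding ones on its ring. -/
theorem regular_transfer {B : Type u} [CommRing B] {a b : B} (ha : ∀ p, a * p = 0 → p = 0)
    (hb : ∀ p, b * p = 0 → p = 0) (hab : ∀ p, a ∣ b * p → a ∣ p) :
    let e := (Scheme.ΓSpecIso (CommRingCat.of B)).commRingCatIsoToRingEquiv.symm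
    (∀ p, e a * p = 0 → p = 0) ∧ (∀ p, e b * p = 0 → p = 0) ∧
      (∀ p, e a ∣ e b * p → e a ∣ p) := by
  intro e
  refine ⟨fun p hp => ?_, fun p hp => ?_, fun p hp => ?_⟩ <;> obtain ⟨p, rfl⟩ := e.surjective p
  · rw [ha p (e.injective (by rw [map_mul, map_zero]; exact hp)), map_zero]
  · rw [hb p (e.injective (by rw [map_mul, map_zero]; exact hp)), map_zero]
  · obtain ⟨q, hq⟩ := hp
    obtain ⟨q, rfl⟩ := e.surjective q
    rw [← map_mul, ← map_mul] at hq
    exact map_dvd e (hab p ⟨q, e.injective hq⟩)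

open Polynomial in
theorem line_regular [IsDomain R] {ϖ : R} (hϖ : ϖ ≠ 0) :
    (∀ p : R[X], X * p = 0 → p = 0) ∧ (∀ p : R[X], C ϖ * p = 0 → p = 0) ∧
      (∀ p : R[X], X ∣ C ϖ * p → X ∣ p) := by
  refine ⟨fun p hp => (mul_eq_zero.1 hp).resolve_left X_ne_zero,
    fun p hp => (mul_eq_zero.1 hp).resolve_left (by simpa using hϖ), fun p hp => ?_⟩
  rw [X_dvd_iff] at hp ⊢
  rw [coeff_C_mul] at hp
  exact (mul_eq_zero.1 hp).resolve_left hϖ

/-- Set `s = 0`. -/
noncomputable def setS (R : Type u) [CommRing R] : MvPolynomial (Fin 2) R →ₐ[R] Polynomial R :=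
  MvPolynomial.aeval ![0, Polynomial.X]

/-- Polynomials in `t`. -/
noncomputable def inclT (R : Type u) [CommRing R] : Polynomial R →ₐ[R] MvPolynomial (Fin 2) R :=
  Polynomial.aeval (MvPolynomial.X 1)

open MvPolynomial in
theorem X_dvd_sub_inclT (g : MvPolynomial (Fin 2) R) :
    (X 0 : MvPolynomial (Fin 2) R) ∣ g - inclT R (setS R g) := by
  induction g using MvPolynomial.induction_on with
  | C r => simp [setS, inclT]
  | add g g' hg hg' =>
    rw [map_add, map_add, add_sub_add_comm]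
    exact dvd_add hg hg'
  | mul_X g i hg =>
    fin_cases i
    · simp [setS, inclT]
    · simpa [setS, inclT, sub_mul] using hg.mul_right (X 1)

open MvPolynomial in
theorem setS_rel (π : R) : setS R (X 0 * X 1 - C π) = -Polynomial.C π := by
  simp [setS]

open MvPolynomial in
theorem X_dvd_of_setS_eq_zero {g : MvPolynomial (Fin 2) R} (h : setS R g = 0) :
    (X 0 : MvPolynomial (Fin 2) R) ∣ g := by
  simpa [h] using X_dvd_sub_inclT g

open MvPolynomial in
theorem sFn_nzd [IsDomain R] {π : R} (hπ : π ≠ 0) :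
    ∀ p : STRing R π, sFn R π * p = 0 → p = 0 := by
  intro p hp
  obtain ⟨p, rfl⟩ := Ideal.Quotient.mk_surjective p
  rw [← map_mul, Ideal.Quotient.eq_zero_iff_mem, Ideal.mem_span_singleton] at hp
  rw [Ideal.Quotient.eq_zero_iff_mem, Ideal.mem_span_singleton]
  obtain ⟨q, hq⟩ := hp
  have h0 : setS R q = 0 := by
    have h1 := congrArg (setS R) hq
    rw [map_mul, map_mul, setS_rel] at h1
    have hX : setS R (X 0) = 0 := by simp [setS]
    rw [hX, zero_mul, neg_mul, eq_comm, neg_eq_zero] at h1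
    exact (mul_eq_zero.1 h1).resolve_left (by simpa using hπ)
  obtain ⟨r, rfl⟩ := X_dvd_of_setS_eq_zero h0
  exact ⟨r, mul_left_cancel₀ (X_ne_zero (0 : Fin 2)) (by rw [hq]; ring)⟩

theorem tFn_nzd [IsDomain R] {π : R} (hπ : π ≠ 0) :
    ∀ p : STRing R π, tFn R π * p = 0 → p = 0 := by
  intro p hp
  have hts : tFn R π * sFn R π = algebraMap R (STRing R π) π := by rw [mul_comm, sFn_mul_tFn]
  let σ : STRing R π →ₐ[R] STRing R π := stPt (tFn R π) (sFn R π) hts
  have hσ : Function.Involutive σ := fun q => by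
    have : σ.comp σ = AlgHom.id R _ := stRing_algHom_ext (by simp [σ]) (by simp [σ])
    exact congrArg (fun t => t q) this
  apply hσ.injective
  rw [map_zero]
  refine sFn_nzd hπ _ ?_
  have := congrArg σ hp
  rwa [map_mul, map_zero, stPt_tFn] at this

open MvPolynomial in
theorem st_regular [IsDomain R] {π : R} (hπ : Prime π) :
    ∀ p : STRing R π, sFn R π ∣ tFn R π * p → sFn R π ∣ p := by
  intro p hp
  obtain ⟨p, rfl⟩ := Ideal.Quotient.mk_surjective p
  obtain ⟨c, hc⟩ := hp
  obtain ⟨c, rfl⟩ := Ideal.Quotient.mk_surjective c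
  rw [← map_mul, ← map_mul, Ideal.Quotient.mk_eq_mk_iff_sub_mem, Ideal.mem_span_singleton] at hc
  obtain ⟨q, hq⟩ := hc
  have h1 := congrArg (setS R) hq
  rw [map_sub, map_mul, map_mul, map_mul, setS_rel,
    show setS R (X 1) = Polynomial.X by simp [setS],
    show setS R (X 0) = 0 by simp [setS], zero_mul, sub_zero] at h1
  have h2 : Polynomial.C π ∣ setS R p := by
    refine ((Polynomial.prime_C_iff.2 hπ).dvd_mul.1
      (⟨-setS R q, by rw [h1]; ring⟩ : Polynomial.C π ∣ Polynomial.X * setS R p)).resolve_left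
      fun h => ?_
    have := (Polynomial.C_dvd_iff_dvd_coeff _ _).1 h 1
    rw [Polynomial.coeff_X_one] at this
    exact hπ.not_isUnit (isUnit_of_dvd_one this)
  obtain ⟨r, hr⟩ := h2
  obtain ⟨w, hw⟩ := X_dvd_sub_inclT p
  refine ⟨Ideal.Quotient.mk _ w + tFn R π * Ideal.Quotient.mk _ (inclT R r), ?_⟩
  have e : p = X 0 * w + C π * inclT R r := by
    rw [← hw, hr, map_mul]
    simp [inclT]
  have hst : sFn R π * tFn R π = Ideal.Quotient.mk _ (C π) := sFn_mul_tFn R π
  rw [e, map_add, map_mul, map_mul, ← hst]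
  ring

end Groth.Agent.ThetaStack
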