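import Groth.Agent.ThetaStack.Quot
import Groth.Agent.ThetaStack.Weights

/-!
Affine morphisms of stacks are Θ-reductive and S-complete.
-/

set_option autoImplicit false
set_option linter.unusedVariables false
set_option backward.isDefEq.respectTransparency false
set_option backward.isDefEq.respectTransparency.types false

universe u

open CategoryTheory AlgebraicGeometry MonoidalCategory CartesianMonoidalCategory

namespace Groth.Agent.ThetaStack

open ThetaS

variable {S : Scheme.{u}} {𝒳 𝒴 : AlgSt.Cat S} {f : 𝒳 ⥤ᵇ 𝒴}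

theorem inOpen_iff_eq_top {X : Over S} {G : Over S} [GrpObj G] {aX : AlgGrp.Action G X}
    (a b : Γ(X.left, ⊤)) (A : AlgSt.QuotObj Scheme.fppfPrecoverage G aX) :
    A.P.left.basicOpen (A.φ.left.appTop a) ⊔ A.P.left.basicOpen (A.φ.left.appTop b) = ⊤ ↔
      InOpen (X.left.basicOpen a ⊔ X.left.basicOpen b) A := by
  rw [← Scheme.preimage_basicOpen_top, ← Scheme.preimage_basicOpen_top, ← Scheme.Hom.preimage_sup,
    SetLike.ext_iff]
  exact ⟨fun h p => (h p).2 trivial, fun h p => ⟨fun _ => trivial, fun _ => h p⟩⟩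

/-- Affine morphisms of stacks are Θ-reductive. -/
theorem isThetaReductive_of_affine (h𝒳 : Stk.IsStack (AlgSp.J S) 𝒳)
    (h𝒴 : Stk.IsPrestack (AlgSp.J S) 𝒴)
    (hf : AlgSt.RepByAlgSpWith (AlgSp.RepWith @IsAffineHom) f) :
    ThetaS.IsThetaReductive Scheme.fppfPrecoverage f := by
  intro R _ _ _ ϖ hϖ h
  obtain ⟨h1, h2, h3⟩ := regular_transfer (line_regular hϖ.ne_zero).1 (line_regular hϖ.ne_zero).2.1
    (line_regular hϖ.ne_zero).2.2
  have : IsAffine (Line R).left := isAffine_Spec _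
  exact liftsUniquely_quot h (aX := lineAction R) f h𝒳 h𝒴 hf (MissesOrigin ϖ)
    (a := lineFn Polynomial.X) (b := lineFn (Polynomial.C ϖ)) rfl
    (fun A => inOpen_iff_eq_top _ _ A) (line_invariant ϖ) h1 h2 h3

/-- Affine morphisms of stacks are S-complete. -/
theorem isSComplete_of_affine (h𝒳 : Stk.IsStack (AlgSp.J S) 𝒳)
    (h𝒴 : Stk.IsPrestack (AlgSp.J S) 𝒴)
    (hf : AlgSt.RepByAlgSpWith (AlgSp.RepWith @IsAffineHom) f) :
    ThetaS.IsSComplete Scheme.fppfPrecoverage f := by
  intro R _ _ _ π hπ h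
  obtain ⟨h1, h2, h3⟩ := regular_transfer (sFn_nzd hπ.ne_zero) (tFn_nzd hπ.ne_zero)
    (st_regular hπ.prime)
  have : IsAffine (STSch R π).left := isAffine_Spec _
  exact liftsUniquely_quot h (aX := stAction R π) f h𝒳 h𝒴 hf MissesNode
    (a := stFn (sFn R π)) (b := stFn (tFn R π)) rfl
    (fun A => inOpen_iff_eq_top _ _ A) (st_invariant π) h1 h2 h3

end Groth.Agent.ThetaStack
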