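import Mathlib.AlgebraicGeometry.AffineScheme
import Mathlib.RingTheory.Localization.Away.Basic

/-!
Extension of functions and of maps to affine schemes over the complement of the zero locus of a
regular sequence of length two.
-/

set_option autoImplicit false
set_option linter.unusedVariables false
set_option linter.unusedSectionVars false

universe u

open CategoryTheory AlgebraicGeometry Opposite TopologicalSpace

namespace Groth.Agent.ThetaStack

variable {X : Scheme.{u}} [IsAffine X] {a b : Γ(X, ⊤)}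

theorem res_top_injective (ha : ∀ p : Γ(X, ⊤), a * p = 0 → p = 0) :
    Function.Injective (X.presheaf.map (homOfLE (show X.basicOpen a ≤ ⊤ from le_top)).op) := by
  have : IsLocalization.Away a Γ(X, X.basicOpen a) := (isAffineOpen_top X).isLocalization_basicOpen a
  have hle : Submonoid.powers a ≤ nonZeroDivisors Γ(X, ⊤) :=
    Submonoid.powers_le.2 (mem_nonZeroDivisors_iff_right.2 fun p hp => ha p (by rwa [mul_comm]))
  exact IsLocalization.injective Γ(X, X.basicOpen a) hle

theorem res_res {U V W : X.Opens} (h₁ : W ≤ V) (h₂ : V ≤ U) (h₃ : W ≤ U) (σ : Γ(X, U)) :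
    X.presheaf.map (homOfLE h₁).op (X.presheaf.map (homOfLE h₂).op σ) =
      X.presheaf.map (homOfLE h₃).op σ := by
  rw [← CommRingCat.comp_apply, ← Functor.map_comp]
  rfl

theorem exists_mul_pow {U : X.Opens} (h : X.basicOpen a ≤ U) (σ : Γ(X, U)) :
    ∃ (n : ℕ) (p : Γ(X, ⊤)), X.presheaf.map (homOfLE h).op σ *
      X.presheaf.map (homOfLE (show X.basicOpen a ≤ ⊤ from le_top)).op (a ^ n) =
        X.presheaf.map (homOfLE (show X.basicOpen a ≤ ⊤ from le_top)).op p := by
  have : IsLocalization.Away a Γ(X, X.basicOpen a) := (isAffineOpen_top X).isLocalization_basicOpen a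
  obtain ⟨n, p, hp⟩ := IsLocalization.Away.surj a (X.presheaf.map (homOfLE h).op σ)
  refine ⟨n, p, ?_⟩
  rw [map_pow]
  exact hp

theorem dvd_of_pow_mul_eq (ha : ∀ p : Γ(X, ⊤), a * p = 0 → p = 0)
    (hab : ∀ p, a ∣ b * p → a ∣ p) (m : ℕ) : ∀ (n : ℕ) (p q : Γ(X, ⊤)),
      p * b ^ m = q * a ^ n → ∃ c, p = a ^ n * c := by
  intro n
  induction n with
  | zero => exact fun p q _ => ⟨p, by simp⟩
  | succ n ih =>
    intro p q h
    have h1 : ∀ k p', a ∣ b ^ k * p' → a ∣ p' := by
      intro k
      induction k with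
      | zero => intro p' hp; simpa using hp
      | succ k ihk => intro p' hp; exact hab _ (ihk _ (by rwa [pow_succ, mul_assoc] at hp))
    obtain ⟨p', rfl⟩ := h1 m p ⟨q * a ^ n, by rw [mul_comm, h]; ring⟩
    have h2 : p' * b ^ m = q * a ^ n := by
      rw [← sub_eq_zero]
      refine ha _ ?_
      rw [mul_sub, ← mul_assoc, h]
      ring
    obtain ⟨c, hc⟩ := ih p' q h2
    exact ⟨c, by rw [hc]; ring⟩

theorem res_bijective (ha : ∀ p : Γ(X, ⊤), a * p = 0 → p = 0)
    (hb : ∀ p : Γ(X, ⊤), b * p = 0 → p = 0) (hab : ∀ p, a ∣ b * p → a ∣ p) :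
    Function.Bijective
      (X.presheaf.map (homOfLE (show X.basicOpen a ⊔ X.basicOpen b ≤ ⊤ from le_top)).op) := by
  refine ⟨fun c c' h => res_top_injective ha ?_, fun σ => ?_⟩
  · have := congrArg (X.presheaf.map (homOfLE (show X.basicOpen a ≤ X.basicOpen a ⊔ X.basicOpen b
      from le_sup_left)).op) h
    rwa [res_res _ _ le_top, res_res _ _ le_top] at this
  obtain ⟨n, p, hp⟩ := exists_mul_pow (show X.basicOpen a ≤ X.basicOpen a ⊔ X.basicOpen b from le_sup_left) σ
  obtain ⟨m, q, hq⟩ := exists_mul_pow (show X.basicOpen b ≤ X.basicOpen a ⊔ X.basicOpen b from le_sup_right) σ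
  have hda : X.basicOpen (a * b) ≤ X.basicOpen a := by
    rw [Scheme.basicOpen_mul]; exact inf_le_left
  have hdb : X.basicOpen (a * b) ≤ X.basicOpen b := by
    rw [Scheme.basicOpen_mul]; exact inf_le_right
  have h : p * b ^ m = q * a ^ n := by
    refine res_top_injective (a := a * b) (fun r hr => ?_) ?_
    · exact hb r (ha _ (by rw [← mul_assoc]; exact hr))
    have h1 := congrArg (X.presheaf.map (homOfLE hda).op) hp
    have h2 := congrArg (X.presheaf.map (homOfLE hdb).op) hq
    simp only [map_mul] at h1 h2 ⊢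
    rw [res_res _ _ (hda.trans le_sup_left), res_res _ _ le_top, res_res _ _ le_top] at h1
    rw [res_res _ _ (hdb.trans le_sup_right), res_res _ _ le_top, res_res _ _ le_top] at h2
    rw [← h1, ← h2]
    ring
  obtain ⟨c, rfl⟩ := dvd_of_pow_mul_eq ha hab m n p q h
  have hq' : q = b ^ m * c := by
    rw [← sub_eq_zero]
    have hz : a ^ n * (q - b ^ m * c) = 0 := by linear_combination -h
    have : ∀ k r, a ^ k * r = 0 → r = 0 := by
      intro k
      induction k with
      | zero => intro r hr; simpa using hr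
      | succ k ihk => intro r hr; exact ha _ (ihk _ (by rwa [pow_succ, mul_assoc] at hr))
    exact this n _ hz
  subst hq'
  refine ⟨c, ?_⟩
  refine TopCat.Sheaf.eq_of_locally_eq₂ X.sheaf (homOfLE le_sup_left) (homOfLE le_sup_right) le_rfl
    _ _ ?_ ?_
  · change X.presheaf.map _ (X.presheaf.map _ c) = X.presheaf.map _ σ
    rw [res_res _ _ le_top]
    have hu : IsUnit (X.presheaf.map (homOfLE (show X.basicOpen a ≤ ⊤ from le_top)).op (a ^ n)) := by
      rw [map_pow]
      exact (RingedSpace.isUnit_res_basicOpen _ a).pow n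
    refine hu.mul_right_cancel ?_
    rw [hp, ← map_mul, mul_comm]
  · change X.presheaf.map _ (X.presheaf.map _ c) = X.presheaf.map _ σ
    rw [res_res _ _ le_top]
    have hu : IsUnit (X.presheaf.map (homOfLE (show X.basicOpen b ≤ ⊤ from le_top)).op (b ^ m)) := by
      rw [map_pow]
      exact (RingedSpace.isUnit_res_basicOpen _ b).pow m
    refine hu.mul_right_cancel ?_
    rw [hq, ← map_mul, mul_comm]

theorem map_injective_congr {U U' : X.Opens} (e : U' = U) (h : U ≤ ⊤) (h' : U' ≤ ⊤)
    (hb : Function.Bijective (X.presheaf.map (homOfLE h).op)) :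
    Function.Bijective (X.presheaf.map (homOfLE h').op) := by
  subst e; exact hb

theorem ι_appTop_bijective (ha : ∀ p : Γ(X, ⊤), a * p = 0 → p = 0)
    (hb : ∀ p : Γ(X, ⊤), b * p = 0 → p = 0) (hab : ∀ p, a ∣ b * p → a ∣ p) :
    Function.Bijective (X.basicOpen a ⊔ X.basicOpen b).ι.appTop :=
  map_injective_congr (Scheme.Opens.ι_image_top _) le_top le_top (res_bijective ha hb hab)

/-- Two maps to an affine scheme agreeing on a schematically dense basic open are equal. -/
theorem hom_ext_of_le {Z : Scheme.{u}} [IsAffine Z] (ha : ∀ p : Γ(X, ⊤), a * p = 0 → p = 0)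
    {U : X.Opens} (hU : X.basicOpen a ≤ U) {s s' : X ⟶ Z} (h : U.ι ≫ s = U.ι ≫ s') : s = s' := by
  refine ext_of_isAffine ?_
  ext r
  refine res_top_injective ha ?_
  have h1 := congrArg (fun t => t.appTop r) h
  simp only [Scheme.Hom.comp_appTop, Scheme.Opens.ι_appTop] at h1
  have e : X.basicOpen a ≤ U.ι ''ᵁ ⊤ := hU.trans_eq (Scheme.Opens.ι_image_top U).symm
  have h2 := congrArg (X.presheaf.map (homOfLE e).op) h1
  erw [CommRingCat.comp_apply, CommRingCat.comp_apply, res_res _ _ le_top, res_res _ _ le_top] at h2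
  exact h2

/-- Sections over `X` of affine maps extend from the complement of `V(a, b)`. -/
theorem exists_section_extension {Z : Scheme.{u}} [IsAffine Z] (ha : ∀ p : Γ(X, ⊤), a * p = 0 → p = 0)
    (hb : ∀ p : Γ(X, ⊤), b * p = 0 → p = 0) (hab : ∀ p, a ∣ b * p → a ∣ p) (π : Z ⟶ X)
    (t : ((X.basicOpen a ⊔ X.basicOpen b : X.Opens) : Scheme) ⟶ Z)
    (ht : t ≫ π = (X.basicOpen a ⊔ X.basicOpen b).ι) :
    ∃ s : X ⟶ Z, s ≫ π = 𝟙 X ∧ (X.basicOpen a ⊔ X.basicOpen b).ι ≫ s = t := by
  let e := (RingEquiv.ofBijective (X.basicOpen a ⊔ X.basicOpen b).ι.appTop.hom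
    (ι_appTop_bijective ha hb hab)).toCommRingCatIso
  let φ : Γ(Z, ⊤) ⟶ Γ(X, ⊤) := t.appTop ≫ e.inv
  let s : X ⟶ Z := X.isoSpec.hom ≫ Spec.map φ ≫ Z.isoSpec.inv
  have hs : s.appTop = φ := by
    apply Spec.map_injective
    have := Scheme.isoSpec_hom_naturality s
    simp only [s, Category.assoc, Iso.inv_hom_id, Category.comp_id] at this
    exact ((cancel_epi X.isoSpec.hom).1 this.symm).symm
  have hι : (X.basicOpen a ⊔ X.basicOpen b).ι ≫ s = t := by
    refine ext_of_isAffine ?_
    rw [Scheme.Hom.comp_appTop, hs, Category.assoc]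
    exact (congrArg (t.appTop ≫ ·) e.inv_hom_id).trans (Category.comp_id _)
  exact ⟨s, hom_ext_of_le ha le_sup_left (by rw [← Category.assoc, hι, ht, Category.comp_id]), hι⟩

end Groth.Agent.ThetaStack
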