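import Groth.Agent.ThetaStack.Descent
import Groth.Agent.ThetaStack.Dict
import Groth.Agent.ThetaStack.Hartogs

/-!
Factorisations at an object with affine base, determined on an open subscheme.
-/

set_option autoImplicit false
set_option linter.unusedVariables false
set_option linter.unusedSectionVars false
set_option backward.isDefEq.respectTransparency false
set_option backward.isDefEq.respectTransparency.types false

universe u

open CategoryTheory CategoryTheory.Limits AlgebraicGeometry Opposite FibCat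
open CategoryTheory.Functor Groth.Agent.FibC

namespace Groth.Agent.ThetaStack

open Groth.Agent.StFib Groth.Agent.IsoCls

variable {S : Scheme.{u}} {ℬ 𝒳 𝒴 : AlgSt.Cat S} {f : 𝒳 ⥤ᵇ 𝒴} {Q : ℬ.obj → Prop}
  (sq : LiftSq.Sq (AlgSt.subIncl ℬ Q) f) (h𝒳 : IsFibGrpd 𝒳.p) (h𝒴 : IsFibGrpd 𝒴.p)
  (hℬ : IsFibGrpd ℬ.p) (hf : AlgSt.RepByAlgSpWith (AlgSp.RepWith @IsAffineHom) f)
  (ξ : ℬ.obj) [IsAffine (ℬ.p.obj ξ).left]

/-- The open subscheme of the base of `ξ`. -/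
abbrev openBase (U : (ℬ.p.obj ξ).left.Opens) : Over S := Over.mk (U.ι ≫ (ℬ.p.obj ξ).hom)

/-- Its inclusion. -/
abbrev openι (U : (ℬ.p.obj ξ).left.Opens) : openBase ξ U ⟶ ℬ.p.obj ξ := Over.homMk U.ι rfl

variable {ξ} {U : (ℬ.p.obj ξ).left.Opens}
  (hQξ : ∀ (z : ℬ.obj) (m : z ⟶ ξ), Q z ↔ ∀ x, (ℬ.p.map m).left x ∈ U)

include hQξ in
theorem mem_restriction (G : overCat (ℬ.p.obj ξ) ⥤ᵇ ℬ) (e₀ : G.obj (overTop _) ≅ ξ)
    (he₀ : ℬ.p.IsHomLift (𝟙 (ℬ.p.obj ξ)) e₀.hom) :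
    Q (G.obj (Over.mk (openι ξ U))) := by
  have h : ℬ.p.IsHomLift (openι ξ U ≫ 𝟙 _) (G.map (toTop (Over.mk (openι ξ U))) ≫ e₀.hom) :=
    lift_comp (map_lift G (toTop (Over.mk (openι ξ U)))) he₀
  refine (hQξ _ (G.map (toTop (Over.mk (openι ξ U))) ≫ e₀.hom)).2 fun x => ?_
  rw [IsHomLift.fac' ℬ.p (openι ξ U ≫ 𝟙 _) (G.map (toTop (Over.mk (openι ξ U))) ≫ e₀.hom)]
  simp only [Category.comp_id, eqToHom_refl, Over.comp_left, Scheme.Hom.comp_apply]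
  exact ((eqToHom _ : _ ⟶ openBase ξ U).left x).2

include h𝒳 h𝒴 hℬ hf hQξ in
theorem exists_factorisation {a b : Γ((ℬ.p.obj ξ).left, ⊤)} (hU : U = Scheme.basicOpen _ a ⊔ Scheme.basicOpen _ b)
    (ha : ∀ p, a * p = 0 → p = 0) (hb : ∀ p, b * p = 0 → p = 0) (hab : ∀ p, a ∣ b * p → a ∣ p) :
    ∃ P : Pair sq.bot f ξ, ∀ (c : (AlgSt.fullSub ℬ Q).obj) (m : c.obj ⟶ ξ),
      Rel m (topPair sq c) P := by
  have := fibGrpd_isFibered hℬ
  obtain ⟨G, -, e₀, he₀⟩ := exists_overLift ξ rfl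
  obtain ⟨D⟩ := nonempty_dict h𝒳 h𝒴 sq.bot f hf G
  let w := Over.mk (openι ξ U)
  let aU : (AlgSt.fullSub ℬ Q).obj := ⟨G.obj w, mem_restriction hQξ G e₀ he₀⟩
  obtain ⟨sU, hsU, hU'⟩ := D.surj w (topPair sq aU)
  have := D.affine
  have : IsAffine D.Z.left := isAffine_of_isAffineHom D.π.left
  subst hU
  obtain ⟨s₀, hs₀, hs₀'⟩ := exists_section_extension ha hb hab D.π.left sU.left
    (congrArg Over.Hom.left hsU)
  let s : ℬ.p.obj ξ ⟶ D.Z := Over.homMk s₀ (by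
    rw [← Over.w D.π, ← Category.assoc, hs₀, Category.id_comp])
  have hs : s ≫ D.π = 𝟙 _ := Over.OverMorphism.ext hs₀
  have hsres : (toTop w).left ≫ s = sU := Over.OverMorphism.ext hs₀'
  obtain ⟨P, hP⟩ := exists_pull h𝒳 h𝒴 e₀.inv (D.P (overTop _) s hs)
  have hP' : Rel e₀.hom (D.P (overTop _) s hs) P :=
    Rel.cancel h𝒳 h𝒴 (by rw [Iso.hom_inv_id]; exact rel_id _) hP
  have hw : (toTop w).left ≫ s ≫ D.π = Over.hom w := by rw [hs]; exact Category.comp_id _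
  have hn := D.nat (toTop w) s hs (by rw [Category.assoc]; exact hw)
  have hres : Rel (G.map (toTop w) ≫ e₀.hom) (topPair sq aU) P := by
    have h1 : Rel (G.map (toTop w)) (D.P w sU hsU) (D.P (overTop _) s hs) := by
      subst hsres; exact hn
    exact ((hU'.symm h𝒳 h𝒴).id_comp h1).comp hP'
  refine ⟨P, fun c m => ?_⟩
  let mU : aU.obj ⟶ ξ := G.map (toTop w) ≫ e₀.hom
  have hmem := (hQξ c.obj m).1 c.property
  let g₀ := IsOpenImmersion.lift (Scheme.basicOpen _ a ⊔ Scheme.basicOpen _ b).ι (ℬ.p.map m).left (by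
    rintro _ ⟨x, rfl⟩
    rw [Scheme.Opens.range_ι]
    exact hmem x)
  let g : ℬ.p.obj c.obj ⟶ Over.left w := Over.homMk g₀ (by
    change g₀ ≫ _ ≫ _ = _
    rw [← Category.assoc, IsOpenImmersion.lift_fac, Over.w])
  have hg : g ≫ openι ξ _ = ℬ.p.map m := Over.OverMorphism.ext (IsOpenImmersion.lift_fac _ _ _)
  have hmU : ℬ.p.IsHomLift (openι ξ (Scheme.basicOpen _ a ⊔ Scheme.basicOpen _ b) ≫ 𝟙 _) mU := lift_comp (map_lift G (toTop w)) he₀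
  obtain ⟨k, -, hk⟩ := grpd_exists_fac hℬ mU m (g ≫ eqToHom (G.w_obj w).symm) (by
    rw [IsHomLift.fac' ℬ.p (openι ξ (Scheme.basicOpen _ a ⊔ Scheme.basicOpen _ b) ≫ 𝟙 _) mU, ← hg]
    simp)
  rw [← hk]
  exact (topPair_nat sq (ObjectProperty.homMk k : c ⟶ aU)).comp hres

include h𝒳 h𝒴 hℬ hf hQξ in
theorem factorisation_unique {a : Γ((ℬ.p.obj ξ).left, ⊤)} (hU : Scheme.basicOpen _ a ≤ U)
    (ha : ∀ p, a * p = 0 → p = 0) (P P' : Pair sq.bot f ξ)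
    (hP : ∀ (c : (AlgSt.fullSub ℬ Q).obj) (m : c.obj ⟶ ξ), Rel m (topPair sq c) P)
    (hP' : ∀ (c : (AlgSt.fullSub ℬ Q).obj) (m : c.obj ⟶ ξ), Rel m (topPair sq c) P') :
    Rel (𝟙 ξ) P P' := by
  have := fibGrpd_isFibered hℬ
  obtain ⟨G, -, e₀, he₀⟩ := exists_overLift ξ rfl
  obtain ⟨D⟩ := nonempty_dict h𝒳 h𝒴 sq.bot f hf G
  let w := Over.mk (openι ξ U)
  let aU : (AlgSt.fullSub ℬ Q).obj := ⟨G.obj w, mem_restriction hQξ G e₀ he₀⟩
  have key : ∀ R : Pair sq.bot f ξ,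
      (∀ (c : (AlgSt.fullSub ℬ Q).obj) (m : c.obj ⟶ ξ), Rel m (topPair sq c) R) →
      ∃ s hs h', Rel e₀.hom (D.P (overTop _) s hs) R ∧
        Rel (𝟙 (G.obj w)) (D.P w ((toTop w).left ≫ s) h') (topPair sq aU) := fun R hR => by
    obtain ⟨R₁, hR₁⟩ := exists_pull h𝒳 h𝒴 e₀.hom R
    obtain ⟨s, hs, hsr⟩ := D.surj (overTop _) R₁
    have h' : ((toTop w).left ≫ s) ≫ D.π = Over.hom w := by
      rw [Category.assoc, hs]; exact Category.comp_id _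
    refine ⟨s, hs, h', hsr.id_comp hR₁, ?_⟩
    exact ((D.nat (toTop w) s hs h').comp (hsr.id_comp hR₁)).unique h𝒳 h𝒴
      (hR aU (G.map (toTop w) ≫ e₀.hom))
  obtain ⟨s, hs, h1, hr, hr'⟩ := key P hP
  obtain ⟨s', hs', h2, hs₁, hs₂⟩ := key P' hP'
  have he := D.inj w _ _ h1 h2 (hr'.comp_id (hs₂.symm h𝒳 h𝒴))
  have := D.affine
  have : IsAffine D.Z.left := isAffine_of_isAffineHom D.π.left
  obtain rfl : s = s' := Over.OverMorphism.ext
    (hom_ext_of_le ha hU (show U.ι ≫ s.left = U.ι ≫ s'.left from congrArg Over.Hom.left he))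
  obtain ⟨R, hR⟩ := exists_pull h𝒳 h𝒴 e₀.inv (D.P (overTop _) s hs)
  have h3 := hR.comp hr
  have h4 := hR.comp hs₁
  rw [Iso.inv_hom_id] at h3 h4
  exact (h3.symm h𝒳 h𝒴).id_comp h4

end Groth.Agent.ThetaStack
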