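import Groth.Prelude.Def_ThetaS
import Groth.Agent.ThetaStack.Chart
import Groth.Agent.StFib.QuotBridgeMap
import Groth.Agent.StFib.QuotTriv
import Groth.Agent.StFib.QuotDesc
import Mathlib.AlgebraicGeometry.Morphisms.Flat

/-!
Unique filling of squares against open substacks of quotient stacks of affine schemes by affine
morphisms.
-/

set_option autoImplicit false
set_option linter.unusedVariables false
set_option linter.unusedSectionVars false
set_option backward.isDefEq.respectTransparency false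
set_option backward.isDefEq.respectTransparency.types false

universe u

open CategoryTheory CategoryTheory.Limits AlgebraicGeometry Opposite MonoidalCategory CartesianMonoidalCategory
  MonObj GrpObj FibCat
open CategoryTheory.Functor Groth.Agent.FibC

namespace Groth.Agent.ThetaStack

open Groth.Agent.StFib Groth.Agent.IsoCls Groth.Agent.StFib.QuotTriv

variable {S' S : Scheme.{u}} (h : S' ⟶ S)

/-- Composing with a morphism of base schemes preserves categories fibred in groupoids. -/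
theorem isFibGrpd_overS {𝒯 : AlgSt.Cat S'} (h𝒯 : IsFibGrpd 𝒯.p) :
    IsFibGrpd (ThetaS.overS h 𝒯).p where
  exists_lift {t V} f := by
    obtain ⟨V, ⟨⟨⟩⟩, g⟩ := V
    let f' : Over.mk (f.left ≫ (𝒯.p.obj t).hom) ⟶ 𝒯.p.obj t := Over.homMk f.left rfl
    obtain ⟨y, φ, hφ⟩ := h𝒯.exists_lift f'
    refine ⟨y, φ, IsHomLift.of_fac' _ f φ ?_ rfl ?_⟩
    · change (Over.map h).obj (𝒯.p.obj y) = _
      rw [IsHomLift.domain_eq 𝒯.p f' φ]
      exact congrArg Over.mk ((Category.assoc f.left (𝒯.p.obj t).hom h).trans (Over.w f))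
    · apply Over.OverMorphism.ext
      change (𝒯.p.map φ).left = _
      rw [IsHomLift.fac' 𝒯.p f' φ]
      simp [f', Over.eqToHom_left]
  isStronglyCartesian {y x} φ :=
    { toIsHomLift := IsHomLift.map _ φ
      universal_property' := fun {a'} g ψ hψ => by
        have hl : g.left ≫ (𝒯.p.map φ).left = (𝒯.p.map ψ).left := by
          have := IsHomLift.fac' (ThetaS.overS h 𝒯).p (g ≫ (ThetaS.overS h 𝒯).p.map φ) ψ
          simp only [eqToHom_refl, Category.comp_id, Category.id_comp] at this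
          exact (congrArg Over.Hom.left this).symm
        let g' : 𝒯.p.obj a' ⟶ 𝒯.p.obj y := Over.homMk g.left (by
          rw [← Over.w (𝒯.p.map φ), ← Category.assoc, hl, Over.w])
        obtain ⟨χ, hχ, hfac⟩ := grpd_exists_fac h𝒯 φ ψ g' (Over.OverMorphism.ext hl)
        have hχ' : (ThetaS.overS h 𝒯).p.map χ = g :=
          Over.OverMorphism.ext (congrArg Over.Hom.left hχ :)
        refine ⟨χ, ⟨IsHomLift.of_fac' _ g χ rfl rfl (by simpa using hχ'), hfac⟩, ?_⟩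
        rintro χ₂ ⟨hχ₂, hfac₂⟩
        refine grpd_cancel h𝒯 φ (hfac₂.trans hfac.symm) (Over.OverMorphism.ext ?_)
        have h2 := IsHomLift.fac' (ThetaS.overS h 𝒯).p g χ₂
        simp only [eqToHom_refl, Category.comp_id, Category.id_comp] at h2
        rw [hχ]
        exact (congrArg Over.Hom.left h2 :) }

variable {G X : Over S'} [GrpObj G] {aX : AlgGrp.Action G X}

local notation "K" => Scheme.fppfPrecoverage

theorem snd_surjective (T : Over S') (x : T.left) : ∃ p : (G ⊗ T).left, (snd G T).left p = x :=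
  ⟨(lift (1 : T ⟶ G) (𝟙 T)).left x, by
    rw [← Scheme.Hom.comp_apply, ← Over.comp_left, lift_snd]; rfl⟩

variable {U : X.left.Opens}
  (hinv : ∀ p, aX.act.left p ∈ U ↔ (snd G X).left p ∈ U)

/-- The objects whose map to `X` lands in `U`. -/
def InOpen (U : X.left.Opens) (A : AlgSt.QuotObj K G aX) : Prop := ∀ p : A.P.left, A.φ.left p ∈ U

theorem InOpen.of_hom {A B : AlgSt.QuotObj K G aX} (k : A ⟶ B) (hB : InOpen U B) : InOpen U A :=
  fun p => by
    rw [← k.wφ, Over.comp_left, Scheme.Hom.comp_apply]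
    exact hB _

include hinv in
theorem inOpen_quotMap_iff (a : (AlgSt.ofSch X).obj) :
    InOpen U ((AlgSt.quotMap K G aX).obj a) ↔ ∀ x, a.sec.down.left x ∈ U := by
  have key : ∀ p : (G ⊗ a.base).left, ((G ◁ a.sec.down) ≫ aX.act).left p ∈ U ↔
      a.sec.down.left ((snd G a.base).left p) ∈ U := fun p => by
    rw [Over.comp_left, Scheme.Hom.comp_apply, hinv, ← Scheme.Hom.comp_apply, ← Over.comp_left,
      whiskerLeft_snd, Over.comp_left, Scheme.Hom.comp_apply]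
  refine ⟨fun H x => ?_, fun H p => (key p).2 (H _)⟩
  obtain ⟨p, rfl⟩ := snd_surjective (G := G) a.base x
  exact (key p).1 (H p)

variable [IsAffineHom G.hom]

theorem isFibGrpd_quot : IsFibGrpd (AlgSt.QuotSt K G aX).p :=
  (QuotBr.isStack_of_affine (aX := aX)).1

/-- The point under a morphism into a trivial torsor. -/
abbrev ptOf {z : AlgSt.QuotObj K G aX} {a₀ : (AlgSt.ofSch X).obj}
    (m : z ⟶ (AlgSt.quotMap K G aX).obj a₀) : (AlgSt.ofSch X).obj :=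
  ⟨z.base, ⟨(show z.base ⟶ a₀.base from m.base) ≫ a₀.sec.down⟩⟩

/-- Its morphism to the given one. -/
abbrev ptMap {z : AlgSt.QuotObj K G aX} {a₀ : (AlgSt.ofSch X).obj}
    (m : z ⟶ (AlgSt.quotMap K G aX).obj a₀) : ptOf m ⟶ a₀ :=
  ⟨m.base, rfl⟩

/-- An object mapping to a trivial torsor is a trivial torsor. -/
theorem exists_iso_quotMap {z : AlgSt.QuotObj K G aX} {a₀ : (AlgSt.ofSch X).obj}
    (m : z ⟶ (AlgSt.quotMap K G aX).obj a₀) :
    ∃ θ : z ⟶ (AlgSt.quotMap K G aX).obj (ptOf m),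
      IsIso θ ∧ θ ≫ (AlgSt.quotMap K G aX).map (ptMap m) = m := by
  obtain ⟨θ, hθ, hfac⟩ := grpd_exists_fac (isFibGrpd_quot (aX := aX))
    ((AlgSt.quotMap K G aX).map (ptMap m)) m (𝟙 _) (Category.id_comp _)
  have : IsIso ((AlgSt.QuotSt K G aX).p.map θ) := by
    rw [hθ]; exact inferInstanceAs (IsIso (𝟙 z.base))
  exact ⟨θ, grpd_isIso isFibGrpd_quot θ, hfac⟩

include hinv in
theorem inOpen_iff_of_hom {z : AlgSt.QuotObj K G aX} {a₀ : (AlgSt.ofSch X).obj}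
    (m : z ⟶ (AlgSt.quotMap K G aX).obj a₀) :
    InOpen U z ↔ ∀ x, a₀.sec.down.left (m.base.left x) ∈ U := by
  obtain ⟨θ, hθ, -⟩ := exists_iso_quotMap m
  exact ⟨fun H => (inOpen_quotMap_iff hinv (ptOf m)).1 (InOpen.of_hom (inv θ) H),
    fun H => InOpen.of_hom θ ((inOpen_quotMap_iff hinv (ptOf m)).2 H)⟩

theorem genSieve_mem {Q : AlgSt.QuotObj K G aX → Prop} (b : (ThetaS.overS h (AlgSt.QuotSt K G aX)).obj) :
    genSieve (isFibGrpd_overS h (isFibGrpd_quot (aX := aX)))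
        ((AlgSt.quotMap K G aX).obj ⟨X, ⟨𝟙 X⟩⟩) b ∈
      AlgSp.J S ((ThetaS.overS h (AlgSt.QuotSt K G aX)).p.obj b) := by
  obtain ⟨R, hR, hsec⟩ := exists_sieve_secs b
  rw [GrothendieckTopology.mem_over_iff] at hR ⊢
  refine GrothendieckTopology.superset_covering _ (fun V g hg => ?_) hR
  let g' : Over.mk (g ≫ b.base.hom) ⟶ b.base := Over.homMk g rfl
  obtain ⟨s, hs⟩ := hsec g' ((Sieve.overEquiv_iff R g).1 hg)
  let a : (AlgSt.ofSch X).obj := ⟨Over.mk (g ≫ b.base.hom), ⟨s ≫ b.φ⟩⟩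
  refine (Sieve.overEquiv_iff _ _).2 ?_
  have hν : (ThetaS.overS h (AlgSt.QuotSt K G aX)).p.IsHomLift ((Over.map h).map g')
      (homTriv a b g' s hs rfl) :=
    IsHomLift.map (ThetaS.overS h (AlgSt.QuotSt K G aX)).p (homTriv a b g' s hs rfl)
  let κ : a ⟶ (⟨X, ⟨𝟙 X⟩⟩ : (AlgSt.ofSch X).obj) := ⟨s ≫ b.φ, congrArg ULift.up (Category.comp_id (s ≫ b.φ))⟩
  have := (genSieve (isFibGrpd_overS h (isFibGrpd_quot (aX := aX)))
    ((AlgSt.quotMap K G aX).obj ⟨X, ⟨𝟙 X⟩⟩) b).downward_closed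
    (f := (Over.map h).map g') ⟨_, _, hν, ⟨(AlgSt.quotMap K G aX).map κ⟩⟩
    (Over.homMk (𝟙 V) (by
      change 𝟙 V ≫ (g ≫ b.base.hom) ≫ h = g ≫ b.base.hom ≫ h
      rw [Category.id_comp, Category.assoc]) :
      Over.mk (g ≫ ((ThetaS.overS h (AlgSt.QuotSt K G aX)).p.obj b).hom) ⟶
        (Over.map h).obj (Over.mk (g ≫ b.base.hom)))
  convert this using 1
  exact Over.OverMorphism.ext (Category.id_comp g).symm

theorem exists_common {z : AlgSt.QuotObj K G aX}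
    (m m' : z ⟶ (AlgSt.quotMap K G aX).obj ⟨X, ⟨𝟙 X⟩⟩)
    (v : (AlgSt.quotMap K G aX).obj ⟨G ⊗ X, ⟨snd G X⟩⟩ ⟶ (AlgSt.quotMap K G aX).obj ⟨X, ⟨𝟙 X⟩⟩)
    (hvb : v.base = aX.act)
    (hvt : v.top = lift (fst G (G ⊗ X) * (snd G (G ⊗ X) ≫ (fst G X)⁻¹)) (snd G (G ⊗ X) ≫ aX.act))
    (κ₂ : (⟨G ⊗ X, ⟨snd G X⟩⟩ : (AlgSt.ofSch X).obj) ⟶ ⟨X, ⟨𝟙 X⟩⟩) (hκ₂ : κ₂.hom = snd G X) :
    ∃ k : z ⟶ (AlgSt.quotMap K G aX).obj ⟨G ⊗ X, ⟨snd G X⟩⟩,
      k ≫ (AlgSt.quotMap K G aX).map κ₂ = m ∧ k ≫ v = m' := by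
  obtain ⟨θ, hθ, hfac⟩ := exists_iso_quotMap m
  let a := ptOf m
  let κ : a ⟶ (⟨X, ⟨𝟙 X⟩⟩ : (AlgSt.ofSch X).obj) := ptMap m
  obtain ⟨g, hg, ht⟩ := exists_pt (inv θ ≫ m')
  have hg' : lift g (inv θ ≫ m').base ≫ aX.act = (ptOf m).sec.down :=
    (congrArg (fun t => lift g t ≫ aX.act) (Category.comp_id ((inv θ ≫ m').base)).symm).trans hg
  let l : a ⟶ (⟨G ⊗ X, ⟨snd G X⟩⟩ : (AlgSt.ofSch X).obj) :=
    ⟨lift g⁻¹ a.sec.down, congrArg ULift.up (lift_snd g⁻¹ a.sec.down)⟩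
  have hl : l.hom ≫ κ₂.hom = κ.hom := by
    rw [hκ₂, show l.hom = lift g⁻¹ a.sec.down from rfl, lift_snd]
    exact Category.comp_id (m.base : z.base ⟶ X)
  have hact : l.hom ≫ aX.act = (inv θ ≫ m').base := by
    rw [show l.hom = lift g⁻¹ (ptOf m).sec.down from rfl, ← hg', ← act_mul, inv_mul_cancel, act_one]
  refine ⟨θ ≫ (AlgSt.quotMap K G aX).map l, ?_, ?_⟩
  · rw [Category.assoc, ← Functor.map_comp, show l ≫ κ₂ = κ from Stk.EltObj.hom_ext hl, hfac]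
  · rw [Category.assoc, show (AlgSt.quotMap K G aX).map l ≫ v = inv θ ≫ m' from ?_,
      IsIso.hom_inv_id_assoc]
    refine AlgSt.QuotObj.hom_ext ?_ ?_
    · rw [AlgSt.QuotObj.comp_base, hvb]
      exact hact
    · rw [AlgSt.QuotObj.comp_top, hvt, ht]
      change (G ◁ l.hom) ≫ _ = _
      rw [comp_lift, comp_mul, whiskerLeft_fst, whiskerLeft_snd_assoc, whiskerLeft_snd_assoc, hact,
        comp_inv, show l.hom = lift g⁻¹ a.sec.down from rfl, lift_fst, _root_.inv_inv]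

/-- Squares against the substack of objects landing in the complement of `V(a, b)` are filled
uniquely by affine morphisms. -/
theorem liftsUniquely_quot [IsAffine X.left] [Flat G.hom] {𝒳 𝒴 : AlgSt.Cat S} (f : 𝒳 ⥤ᵇ 𝒴)
    (h𝒳 : Stk.IsStack (AlgSp.J S) 𝒳) (h𝒴 : Stk.IsPrestack (AlgSp.J S) 𝒴)
    (hf : AlgSt.RepByAlgSpWith (AlgSp.RepWith @IsAffineHom) f)
    (Q : AlgSt.QuotObj K G aX → Prop) {a b : Γ(X.left, ⊤)}
    (hU : U = X.left.basicOpen a ⊔ X.left.basicOpen b)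
    (hQ : ∀ A, Q A ↔ InOpen U A) (hinv : ∀ p, aX.act.left p ∈ U ↔ (snd G X).left p ∈ U)
    (ha : ∀ p, a * p = 0 → p = 0) (hb : ∀ p, b * p = 0 → p = 0) (hab : ∀ p, a ∣ b * p → a ∣ p) :
    LiftSq.LiftsUniquely (AlgSt.subIncl (ThetaS.overS h (AlgSt.QuotSt K G aX)) Q) f := by
  intro sq
  have hP := StkLib.isPrestack_of_isStack h𝒳
  have := faithful_of_repByAlgSp1 hP.1 h𝒴.1 f fun W y =>
    (hf W y).imp fun F hF => hF.imp fun e he => he.1
  let a₀ : (AlgSt.ofSch X).obj := ⟨X, ⟨𝟙 X⟩⟩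
  let a₂ : (AlgSt.ofSch X).obj := ⟨G ⊗ X, ⟨snd G X⟩⟩
  let κ₂ : a₂ ⟶ a₀ := ⟨snd G X, congrArg ULift.up (Category.comp_id (snd G X))⟩
  have hg : lift (fst G X)⁻¹ (aX.act ≫ a₀.sec.down) ≫ aX.act = a₂.sec.down := by
    change lift (fst G X)⁻¹ (aX.act ≫ 𝟙 X) ≫ aX.act = snd G X
    have e : aX.act = lift (fst G X) (snd G X) ≫ aX.act := by rw [lift_fst_snd, Category.id_comp]
    rw [Category.comp_id]
    conv_lhs => arg 1; arg 2; rw [e]
    rw [← act_mul, inv_mul_cancel, act_one]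
  let v : (AlgSt.quotMap K G aX).obj a₂ ⟶ (AlgSt.quotMap K G aX).obj a₀ :=
    homPt a₂ a₀ aX.act (fst G X)⁻¹ hg
  have haff₀ : IsAffine ((ThetaS.overS h (AlgSt.QuotSt K G aX)).p.obj
      ((AlgSt.quotMap K G aX).obj a₀)).left := ‹IsAffine X.left›
  have sqG : IsPullback (fst G X).left (snd G X).left G.hom X.hom := by
    have := (AlgSt.isPullback_fst_snd G X).map (Over.forget S')
    simpa using this
  have haff : IsAffineHom (snd G X).left :=
    MorphismProperty.of_isPullback (P := @IsAffineHom) sqG inferInstance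
  have hflat : Flat (snd G X).left :=
    MorphismProperty.of_isPullback (P := @Flat) sqG inferInstance
  have : IsAffine (G ⊗ X).left := isAffine_of_isAffineHom (snd G X).left
  have haff₂ : IsAffine ((ThetaS.overS h (AlgSt.QuotSt K G aX)).p.obj
      ((AlgSt.quotMap K G aX).obj a₂)).left := ‹IsAffine (G ⊗ X).left›
  have hℬ := isFibGrpd_overS h (isFibGrpd_quot (aX := aX))
  have hQ₀ : ∀ z (m : z ⟶ (AlgSt.quotMap K G aX).obj a₀), Q z ↔ ∀ x, m.base.left x ∈ U :=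
    fun z m => (hQ z).trans (inOpen_iff_of_hom hinv m)
  have hQ₂ : ∀ z (m : z ⟶ (AlgSt.quotMap K G aX).obj a₂),
      Q z ↔ ∀ x, m.base.left x ∈ (snd G X).left ⁻¹ᵁ U :=
    fun z m => (hQ z).trans (inOpen_iff_of_hom hinv m)
  refine uniquelyFills_of_chart sq h𝒳 hP h𝒴 hℬ
    (fun k hx => (hQ _).2 (InOpen.of_hom k ((hQ _).1 hx)))
    ((AlgSt.quotMap K G aX).obj a₀) ((AlgSt.quotMap K G aX).obj a₂)
    ((AlgSt.quotMap K G aX).map κ₂) v (genSieve_mem h (Q := Q))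
    (fun z m m' => exists_common m m' v rfl (homPt_top a₂ a₀ aX.act (fst G X)⁻¹ hg) κ₂ rfl)
    (exists_factorisation sq hP.1 h𝒴.1 hℬ hf (ξ := (AlgSt.quotMap K G aX).obj a₀) (U := U) hQ₀ hU ha hb
      hab) ?_
  rintro c (rfl | rfl) P P' hP₁ hP₂
  · exact factorisation_unique sq hP.1 h𝒴.1 hℬ hf (ξ := (AlgSt.quotMap K G aX).obj a₀) (U := U) hQ₀
      (hU ▸ le_sup_left) ha P P' hP₁ hP₂
  · refine factorisation_unique sq hP.1 h𝒴.1 hℬ hf (ξ := (AlgSt.quotMap K G aX).obj a₂)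
      (U := (snd G X).left ⁻¹ᵁ U) hQ₂ (a := (snd G X).left.appTop a) ?_ ?_ P P' hP₁ hP₂
    · exact (Scheme.preimage_basicOpen_top (snd G X).left a).symm.trans_le
        (Scheme.Hom.preimage_mono _ (hU ▸ le_sup_left))
    · intro p hp
      let φ : Γ(X.left, ⊤) →+* Γ((G ⊗ X).left, ⊤) := ((snd G X).left.appTop).hom
      algebraize [φ]
      have : Module.Flat Γ(X.left, ⊤) Γ((G ⊗ X).left, ⊤) := Scheme.Hom.flat_appTop (snd G X).left
      exact (IsSMulRegular.of_flat (S := Γ((G ⊗ X).left, ⊤))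
        (fun x y hxy => sub_eq_zero.1 (ha _ (by rw [mul_sub]; exact sub_eq_zero.2 hxy))))
        (hp.trans (mul_zero _).symm)

end Groth.Agent.ThetaStack
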