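import Groth.Agent.ThetaStack.Pairs
import Groth.Agent.FibC.Yoneda
import Groth.Agent.FibC.Basic
import Groth.Agent.AlgSp.Basic
import Groth.Prelude.Def_AlgSt3

/-!
Existence and uniqueness of lifts against the inclusion of a full subcategory of a category covered
by a single object.
-/

set_option autoImplicit false
set_option linter.unusedVariables false
set_option backward.isDefEq.respectTransparency false
set_option backward.isDefEq.respectTransparency.types false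

universe u

open CategoryTheory CategoryTheory.Limits AlgebraicGeometry Opposite FibCat
open CategoryTheory.Functor Groth.Agent.FibC

namespace Groth.Agent.ThetaStack

open Groth.Agent.StFib Groth.Agent.IsoCls

variable {S : Scheme.{u}} {J : GrothendieckTopology (Over S)} {ℬ 𝒳 𝒴 : AlgSt.Cat S}

/-- The sieve on which an object receives morphisms from objects mapping to `ξ`. -/
def genSieve (hℬ : IsFibGrpd ℬ.p) (ξ b : ℬ.obj) : Sieve (ℬ.p.obj b) where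
  arrows V g := ∃ (z : ℬ.obj) (ν : z ⟶ b), ℬ.p.IsHomLift g ν ∧ Nonempty (z ⟶ ξ)
  downward_closed := by
    rintro V W g ⟨z, ν, hν, ⟨m⟩⟩ k
    obtain ⟨w, κ, hκ⟩ := exists_lift' hℬ (IsHomLift.domain_eq ℬ.p g ν) k
    exact ⟨w, κ ≫ ν, lift_comp hκ hν, ⟨κ ≫ m⟩⟩

section

variable {bot : ℬ ⥤ᵇ 𝒴} {f : 𝒳 ⥤ᵇ 𝒴}

/-- A factorisation induced by a given one at `ξ`. -/
def Char {ξ : ℬ.obj} (P₀ : Pair bot f ξ) {b : ℬ.obj} (P : Pair bot f b) : Prop :=
  ∀ ⦃z : ℬ.obj⦄ (ν : z ⟶ b) (m : z ⟶ ξ), ∃ Q, Rel ν Q P ∧ Rel m Q P₀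

variable (h𝒳 : Stk.IsStack J 𝒳) (hP : Stk.IsPrestack J 𝒳) (h𝒴 : Stk.IsPrestack J 𝒴)
  (hℬ : IsFibGrpd ℬ.p) [f.toFunctor.Faithful]
  {ξ : ℬ.obj} (P₀ : Pair bot f ξ) (hcov : ∀ b, genSieve hℬ ξ b ∈ J (ℬ.p.obj b))
  (hindep : ∀ ⦃z : ℬ.obj⦄ (m m' : z ⟶ ξ) (Q : Pair bot f z), Rel m Q P₀ → Rel m' Q P₀)

include hP h𝒴 hcov in
theorem Char.unique {b : ℬ.obj} {P P' : Pair bot f b} (h : Char P₀ P) (h' : Char P₀ P') :
    Rel (𝟙 b) P P' := by
  have := P.vert.isIso h𝒴.1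
  obtain ⟨φ, hφ⟩ := exists_preimage_local hP h𝒴 (f := f) (inv P.e ≫ P'.e)
    ((genSieve hℬ ξ b).pullback (eqToHom P.base))
    (J.pullback_stable _ (hcov b)) fun w ν hν => by
      obtain ⟨z, νb, hνb, ⟨m⟩⟩ := hν
      obtain ⟨Q, hQ, hQm⟩ := h νb m
      obtain ⟨Q', hQ', hQm'⟩ := h' νb m
      obtain ⟨ψ', hψ'⟩ := (hQm.unique hP.1 h𝒴.1 hQm').id_comp hQ'
      obtain ⟨ψ, hψ⟩ := hQ
      obtain ⟨θ, -, hθ⟩ := grpd_exists_fac hP.1 ψ ν
        (eqToHom ((IsHomLift.domain_eq ℬ.p (𝒳.p.map ν ≫ eqToHom P.base) νb).symm.trans Q.base.symm))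
        (by
          rw [map_of_eq hψ, IsHomLift.fac' ℬ.p (𝒳.p.map ν ≫ eqToHom P.base) νb]
          simp)
      refine ⟨θ ≫ ψ', ?_⟩
      rw [← hθ, Functor.map_comp, Functor.map_comp, Category.assoc]
      congr 1
      have := Q.vert.isIso h𝒴.1
      rw [← cancel_epi Q.e, hψ', reassoc_of% hψ, IsIso.hom_inv_id_assoc]
  exact ⟨φ, by rw [hφ, IsIso.hom_inv_id_assoc, CategoryTheory.Functor.map_id, Category.id_comp]⟩

include h𝒳 h𝒴 hindep in
theorem exists_char (b : ℬ.obj) (hR : genSieve hℬ ξ b ∈ J (ℬ.p.obj b)) :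
    ∃ P : Pair bot f b, Char P₀ P := by
  let R := genSieve hℬ ξ b
  have := fibGrpd_isFibered hℬ
  obtain ⟨G, -, e₀, he₀⟩ := exists_overLift b rfl
  let n : ∀ a : (Stk.sieveCat R).obj, G.obj a.obj ⟶ b := fun a => G.map (toTop a.obj) ≫ e₀.hom
  have hn : ∀ a, ℬ.p.IsHomLift (Over.hom a.obj) (n a) := fun a => by
    have h1 : ℬ.p.IsHomLift (Over.hom a.obj ≫ 𝟙 (ℬ.p.obj b)) (n a) :=
      lift_comp (map_lift G (toTop a.obj)) he₀
    simpa using h1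
  have hm : ∀ a : (Stk.sieveCat R).obj, Nonempty (G.obj a.obj ⟶ ξ) := fun a => by
    obtain ⟨z, ν, hν, ⟨m⟩⟩ := a.property
    have := hn a
    obtain ⟨μ, -, -, -⟩ := GalCohAux.GerbBasic.exists_fac hℬ (Over.hom a.obj) ν (n a)
    exact ⟨μ ≫ m⟩
  choose Q hQ using fun a => exists_pull h𝒳.1 h𝒴.1 (hm a).some P₀
  have hrel : ∀ {a a' : (Stk.sieveCat R).obj} (k : a ⟶ a'), Rel (G.map k.hom) (Q a) (Q a') := fun {a a'} k =>
    Rel.cancel h𝒳.1 h𝒴.1 (hindep _ _ _ (hQ a)) (hQ a')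
  choose ψ hψ using @hrel
  have huniq : ∀ {a a'} (m m' : (Q a).x ⟶ (Q a').x),
      (Q a).e ≫ f.map m = (Q a).e ≫ f.map m' → m = m' := fun {a a'} m m' h => by
    have := (Q a).vert.isIso h𝒴.1
    exact f.toFunctor.map_injective ((cancel_epi (Q a).e).1 h)
  let D₀ : (Stk.sieveCat R).obj ⥤ 𝒳.obj :=
    { obj := fun a => (Q a).x
      map := fun k => ψ k
      map_id := fun a => huniq _ _ (by
        rw [hψ, CategoryTheory.Functor.map_id, ObjectProperty.FullSubcategory.id_hom,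
          CategoryTheory.Functor.map_id, CategoryTheory.Functor.map_id, Category.comp_id,
          Category.id_comp])
      map_comp := fun k k' => huniq _ _ (by
        rw [hψ, Functor.map_comp, ObjectProperty.FullSubcategory.comp_hom, Functor.map_comp,
          Functor.map_comp, reassoc_of% (hψ k), hψ k', Category.assoc]) }
  let D : Stk.sieveCat R ⥤ᵇ 𝒳 := ⟨D₀,
    CategoryTheory.Functor.ext (fun a => (Q a).base.trans (G.w_obj a.obj)) fun a a' k => by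
      refine (map_of_eq (hψ k)).trans ?_
      rw [StFib.w_map]
      simp only [Category.assoc, eqToHom_trans, eqToHom_trans_assoc]
      rfl⟩
  have : (Stk.resSieve R 𝒳).IsEquivalence := h𝒳.2 R hR
  let H := (Stk.resSieve R 𝒳).objPreimage D
  let i := (Stk.resSieve R 𝒳).objObjPreimageIso D
  let α : BasedFunctor.comp (Stk.sieveIncl R) (BasedFunctor.comp G bot) ⟶
      BasedFunctor.comp (Stk.sieveIncl R) (BasedFunctor.comp H f) :=
    { toNatTrans :=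
        { app := fun a => (Q a).e ≫ f.map (StFib.isoApp i a).inv
          naturality := fun a a' k => by
            change bot.map (G.map k.hom) ≫ (Q a').e ≫ f.map (StFib.isoApp i a').inv =
              ((Q a).e ≫ f.map (StFib.isoApp i a).inv) ≫ f.map (H.map k.hom)
            have hnat : D.map k ≫ (StFib.isoApp i a').inv =
                (StFib.isoApp i a).inv ≫ H.map k.hom := i.inv.toNatTrans.naturality k
            rw [← reassoc_of% (hψ k), Category.assoc, ← Functor.map_comp, ← Functor.map_comp]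
            exact congrArg (fun t => (Q a).e ≫ f.map t) hnat }
      isHomLift' := fun a => ((Q a).vert.comp ((vert_isoApp_inv i a).map f)).isHomLift
        ((bot.w_obj _).trans (G.w_obj a.obj)) }
  have : (Stk.resSieve R 𝒴).Full := (h𝒴.2 R hR).1
  obtain ⟨β, hβ⟩ := (Stk.resSieve R 𝒴).map_surjective (X := BasedFunctor.comp G bot)
    (Y := BasedFunctor.comp H f) α
  have hβ' : ∀ a : (Stk.sieveCat R).obj,
      β.toNatTrans.app a.obj = (Q a).e ≫ f.map (StFib.isoApp i a).inv := fun a =>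
    congrArg (fun m => m.toNatTrans.app a) hβ
  let P : Pair bot f b :=
    { x := H.obj (overTop _)
      e := bot.map e₀.inv ≫ β.toNatTrans.app (overTop _)
      vert := ((Vert.inv (vert_of_isHomLift he₀)).map bot).comp (StFib.vert_app β _) }
  refine ⟨P, fun z ν m => ?_⟩
  have hR' : R (ℬ.p.map ν) := ⟨z, ν, IsHomLift.map ℬ.p ν, ⟨m⟩⟩
  let a : (Stk.sieveCat R).obj := ⟨Over.mk (ℬ.p.map ν), hR'⟩
  have := hn a
  have : ℬ.p.IsHomLift (Over.hom a.obj) ν := IsHomLift.map ℬ.p ν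
  obtain ⟨μ, -, -, hμ⟩ := GalCohAux.GerbBasic.exists_fac hℬ (Over.hom a.obj) (n a) ν
  obtain ⟨Q', hQ'⟩ := exists_pull h𝒳.1 h𝒴.1 μ (Q a)
  have h1 : Rel (n a) (Q a) P := by
    refine ⟨(StFib.isoApp i a).inv ≫ H.map (toTop a.obj), ?_⟩
    rw [Functor.map_comp, ← reassoc_of% (hβ' a)]
    have hnat : bot.map (G.map (toTop a.obj)) ≫ β.toNatTrans.app (overTop _) =
        β.toNatTrans.app a.obj ≫ f.map (H.map (toTop a.obj)) :=
      β.toNatTrans.naturality (toTop a.obj)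
    refine hnat.symm.trans ?_
    simp only [n, P, Functor.map_comp, Category.assoc]
    congr 1
    rw [← Functor.map_comp_assoc]
    erw [Iso.hom_inv_id]
    rw [CategoryTheory.Functor.map_id, Category.id_comp]
  exact ⟨Q', hμ ▸ hQ'.comp h1, hindep _ _ _ (hQ'.comp (hQ a))⟩

end

variable {f : 𝒳 ⥤ᵇ 𝒴} {Q : ℬ.obj → Prop}

/-- Squares against the inclusion of a full subcategory can be uniquely filled if this is so at an
object covering everything. -/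
theorem uniquelyFills_of_chart (sq : LiftSq.Sq (AlgSt.subIncl ℬ Q) f)
    (h𝒳 : Stk.IsStack J 𝒳) (hP : Stk.IsPrestack J 𝒳) (h𝒴 : Stk.IsPrestack J 𝒴)
    (hℬ : IsFibGrpd ℬ.p) [f.toFunctor.Faithful]
    (hQ : ∀ {x y : ℬ.obj}, (y ⟶ x) → Q x → Q y)
    (ξ ξ₂ : ℬ.obj) (u v : ξ₂ ⟶ ξ) (hcov : ∀ b, genSieve hℬ ξ b ∈ J (ℬ.p.obj b))
    (hfac : ∀ ⦃z : ℬ.obj⦄ (m m' : z ⟶ ξ), ∃ k : z ⟶ ξ₂, k ≫ u = m ∧ k ≫ v = m')
    (hex : ∃ P : Pair sq.bot f ξ, ∀ (a : (AlgSt.fullSub ℬ Q).obj) (m : a.obj ⟶ ξ),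
      Rel m (topPair sq a) P)
    (huniq : ∀ b, b = ξ ∨ b = ξ₂ → ∀ P P' : Pair sq.bot f b,
      (∀ (a : (AlgSt.fullSub ℬ Q).obj) (m : a.obj ⟶ b), Rel m (topPair sq a) P) →
      (∀ (a : (AlgSt.fullSub ℬ Q).obj) (m : a.obj ⟶ b), Rel m (topPair sq a) P') →
      Rel (𝟙 b) P P') :
    sq.UniquelyFills := by
  obtain ⟨P₀, hP₀⟩ := hex
  obtain ⟨P₂, hP₂⟩ := exists_pull hP.1 h𝒴.1 u P₀
  obtain ⟨P₂', hP₂'⟩ := exists_pull hP.1 h𝒴.1 v P₀
  have hv : Rel v P₂ P₀ := by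
    refine (huniq ξ₂ (Or.inr rfl) P₂ P₂' (fun a m => ?_) fun a m => ?_).id_comp hP₂'
    · exact Rel.cancel hP.1 h𝒴.1 (hP₀ a (m ≫ u)) hP₂
    · exact Rel.cancel hP.1 h𝒴.1 (hP₀ a (m ≫ v)) hP₂'
  have hindep : ∀ ⦃z : ℬ.obj⦄ (m m' : z ⟶ ξ) (R : Pair sq.bot f z),
      Rel m R P₀ → Rel m' R P₀ := fun z m m' R hR => by
    obtain ⟨k, rfl, rfl⟩ := hfac m m'
    exact (Rel.cancel hP.1 h𝒴.1 hR hP₂).comp hv
  choose σ hσ using fun b => exists_char h𝒳 h𝒴 hℬ P₀ hindep b (hcov b)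
  have hfam : IsFamily sq σ := by
    refine ⟨fun b' b φ => ?_, fun a => ?_⟩
    · obtain ⟨P', hP'⟩ := exists_pull hP.1 h𝒴.1 φ (σ b)
      have hc : Char P₀ P' := fun z ν m => by
        obtain ⟨R, h1, h2⟩ := hσ b (ν ≫ φ) m
        exact ⟨R, Rel.cancel hP.1 h𝒴.1 h1 hP', h2⟩
      exact (Char.unique hP h𝒴 hℬ P₀ hcov (hσ b') hc).id_comp hP'
    · refine Char.unique hP h𝒴 hℬ P₀ hcov (hσ _) fun z ν m => ?_
      let a' : (AlgSt.fullSub ℬ Q).obj := ⟨z, hQ ν a.property⟩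
      exact ⟨topPair sq a', topPair_nat sq (ObjectProperty.homMk ν : a' ⟶ a), hP₀ a' m⟩
  refine ⟨nonempty_lift hP.1 h𝒴.1 hfam, uniqLift_of_forall hP.1 h𝒴.1 fun τ τ' hτ hτ' b => ?_⟩
  have key : ∀ τ : ∀ b, Pair sq.bot f b, IsFamily sq τ → ∀ b, Char P₀ (τ b) := fun τ hτ b z ν m => by
    have h0 : Rel (𝟙 ξ) (τ ξ) P₀ := huniq ξ (Or.inl rfl) _ _ (fun a m =>
      ((hτ.2 a).symm hP.1 h𝒴.1).id_comp (hτ.1 m)) hP₀
    exact ⟨τ z, hτ.1 ν, (hτ.1 m).comp_id h0⟩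
  exact Char.unique hP h𝒴 hℬ P₀ hcov (key τ hτ b) (key τ' hτ' b)

end Groth.Agent.ThetaStack
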