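import Groth.Prelude.Def_LiftSq
import Groth.Agent.StFib.Basic
import Groth.Agent.StFib.Grpd
import Groth.Agent.IsoCls.GlueHom

/-!
Lifts of a square against a faithful functor, as compatible families of vertical factorisations.
-/

set_option autoImplicit false
set_option linter.unusedVariables false
set_option backward.isDefEq.respectTransparency false
set_option backward.isDefEq.respectTransparency.types false

universe v₅ u₅ v₄ u₄ v₃ u₃ v₂ u₂ v u

open CategoryTheory CategoryTheory.Limits FibCat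
open CategoryTheory.Functor Groth.Agent.FibC

namespace Groth.Agent.ThetaStack

open Groth.Agent.StFib Groth.Agent.IsoCls

variable {C : Type u} [Category.{v} C] {𝒜 : BasedCategory.{v₂, u₂} C} {ℬ : BasedCategory.{v₃, u₃} C}
  {𝒳 : BasedCategory.{v₄, u₄} C} {𝒴 : BasedCategory.{v₅, u₅} C}

/-- A vertical factorisation of a value of `bot` through `f`. -/
structure Pair (bot : ℬ ⥤ᵇ 𝒴) (f : 𝒳 ⥤ᵇ 𝒴) (b : ℬ.obj) where
  /-- the object -/
  x : 𝒳.obj
  /-- the comparison -/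
  e : bot.obj b ⟶ f.obj x
  vert : Vert e

variable {bot : ℬ ⥤ᵇ 𝒴} {f : 𝒳 ⥤ᵇ 𝒴}

theorem Pair.base {b : ℬ.obj} (P : Pair bot f b) : 𝒳.p.obj P.x = ℬ.p.obj b :=
  (f.w_obj P.x).symm.trans (P.vert.base_eq.symm.trans (bot.w_obj b))

/-- Compatibility of factorisations along a morphism. -/
def Rel {b' b : ℬ.obj} (φ : b' ⟶ b) (P' : Pair bot f b') (P : Pair bot f b) : Prop :=
  ∃ ψ : P'.x ⟶ P.x, P'.e ≫ f.map ψ = bot.map φ ≫ P.e

theorem map_of_eq {b' b : ℬ.obj} {φ : b' ⟶ b} {P' : Pair bot f b'} {P : Pair bot f b}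
    {ψ : P'.x ⟶ P.x} (h : P'.e ≫ f.map ψ = bot.map φ ≫ P.e) :
    𝒳.p.map ψ = eqToHom P'.base ≫ ℬ.p.map φ ≫ eqToHom P.base.symm := by
  have h' := congrArg 𝒴.p.map h
  rw [Functor.map_comp, Functor.map_comp, StFib.w_map, StFib.w_map, P'.vert.2, P.vert.2] at h'
  simpa [eqToHom_comp_iff, comp_eqToHom_iff] using h'

theorem rel_id {b : ℬ.obj} (P : Pair bot f b) : Rel (𝟙 b) P P :=
  ⟨𝟙 _, by rw [CategoryTheory.Functor.map_id, CategoryTheory.Functor.map_id, Category.comp_id, Category.id_comp]⟩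

theorem Rel.comp {b'' b' b : ℬ.obj} {φ' : b'' ⟶ b'} {φ : b' ⟶ b} {P'' : Pair bot f b''}
    {P' : Pair bot f b'} {P : Pair bot f b} (h' : Rel φ' P'' P') (h : Rel φ P' P) :
    Rel (φ' ≫ φ) P'' P := by
  obtain ⟨ψ', h'⟩ := h'
  obtain ⟨ψ, h⟩ := h
  exact ⟨ψ' ≫ ψ, by rw [Functor.map_comp, Functor.map_comp, reassoc_of% h', h, Category.assoc]⟩

theorem Rel.comp_id {b' b : ℬ.obj} {φ : b' ⟶ b} {P' : Pair bot f b'} {P P₂ : Pair bot f b}
    (h : Rel φ P' P) (h' : Rel (𝟙 b) P P₂) : Rel φ P' P₂ := by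
  simpa using h.comp h'

theorem Rel.id_comp {b' b : ℬ.obj} {φ : b' ⟶ b} {P₂ P' : Pair bot f b'} {P : Pair bot f b}
    (h' : Rel (𝟙 b') P₂ P') (h : Rel φ P' P) : Rel φ P₂ P := by
  simpa using h'.comp h

theorem Rel.cancel (h𝒳 : IsFibGrpd 𝒳.p) (h𝒴 : IsFibGrpd 𝒴.p) {b'' b' b : ℬ.obj} {k : b'' ⟶ b'}
    {φ : b' ⟶ b} {P'' : Pair bot f b''} {P' : Pair bot f b'} {P : Pair bot f b}
    (h : Rel (k ≫ φ) P'' P) (h' : Rel φ P' P) : Rel k P'' P' := by
  obtain ⟨ψ, h⟩ := h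
  obtain ⟨ψ', h'⟩ := h'
  obtain ⟨χ, hχ, hfac⟩ := grpd_exists_fac h𝒳 ψ' ψ
    (eqToHom P''.base ≫ ℬ.p.map k ≫ eqToHom P'.base.symm)
    (by rw [map_of_eq h, map_of_eq h']; simp)
  refine ⟨χ, grpd_cancel h𝒴 (f.map ψ') ?_ ?_⟩
  · rw [Category.assoc, ← Functor.map_comp, hfac, h, Category.assoc, h', Functor.map_comp,
      Category.assoc]
  · rw [Functor.map_comp, Functor.map_comp, StFib.w_map, StFib.w_map, hχ, P'.vert.2, P''.vert.2]
    simp

theorem Rel.symm (h𝒳 : IsFibGrpd 𝒳.p) (h𝒴 : IsFibGrpd 𝒴.p) {b : ℬ.obj} {P' P : Pair bot f b}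
    (h : Rel (𝟙 b) P' P) : Rel (𝟙 b) P P' :=
  Rel.cancel (φ := 𝟙 b) h𝒳 h𝒴 (by simpa using rel_id P) h

theorem Rel.unique (h𝒳 : IsFibGrpd 𝒳.p) (h𝒴 : IsFibGrpd 𝒴.p) {b' b : ℬ.obj} {φ : b' ⟶ b}
    {P₁ P₂ : Pair bot f b'} {P : Pair bot f b} (h₁ : Rel φ P₁ P) (h₂ : Rel φ P₂ P) :
    Rel (𝟙 b') P₁ P₂ :=
  Rel.cancel (k := 𝟙 b') h𝒳 h𝒴 (by simpa using h₁) h₂

theorem exists_pull (h𝒳 : IsFibGrpd 𝒳.p) (h𝒴 : IsFibGrpd 𝒴.p) {b' b : ℬ.obj} (φ : b' ⟶ b)
    (P : Pair bot f b) : ∃ P' : Pair bot f b', Rel φ P' P := by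
  obtain ⟨x', hx', ψ, hψ⟩ := grpd_exists_lift h𝒳 P.x (ℬ.p.map φ ≫ eqToHom P.base.symm)
  have he : 𝒴.p.obj (bot.obj b') = 𝒴.p.obj (f.obj x') :=
    (bot.w_obj b').trans (hx'.symm.trans (f.w_obj x').symm)
  obtain ⟨e', he', hfac⟩ := grpd_exists_fac h𝒴 (f.map ψ) (bot.map φ ≫ P.e) (eqToHom he)
    (by rw [Functor.map_comp, StFib.w_map, StFib.w_map, hψ, P.vert.2]; simp)
  exact ⟨⟨x', e', he, he'⟩, ψ, hfac⟩

/-- A morphism of `𝒴` between values of a faithful functor which is locally in the image is in the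
image. -/
theorem exists_preimage_local {J : GrothendieckTopology C} (h𝒳 : Stk.IsPrestack J 𝒳)
    (h𝒴 : Stk.IsPrestack J 𝒴) [f.toFunctor.Faithful] {x x' : 𝒳.obj} (M : f.obj x ⟶ f.obj x')
    (R : Sieve (𝒳.p.obj x)) (hR : R ∈ J (𝒳.p.obj x))
    (hloc : ∀ ⦃z : 𝒳.obj⦄ (ν : z ⟶ x), R (𝒳.p.map ν) → ∃ m : z ⟶ x', f.map m = f.map ν ≫ M) :
    ∃ φ : x ⟶ x', f.map φ = M := by
  let g : 𝒳.p.obj x ⟶ 𝒳.p.obj x' :=
    eqToHom (f.w_obj x).symm ≫ 𝒴.p.map M ≫ eqToHom (f.w_obj x')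
  have h0 : ∀ ⦃z : 𝒳.obj⦄ (ν : z ⟶ x), R (𝒳.p.map ν ≫ eqToHom rfl) → R (𝒳.p.map ν) :=
    fun z ν hν => by simpa using hν
  choose m hm using fun z (ν : z ⟶ x) (hν : R (𝒳.p.map ν ≫ eqToHom rfl)) => hloc ν (h0 ν hν)
  obtain ⟨φ, hφ, hφ'⟩ := exists_hom_of_sieve h𝒳 rfl rfl g R hR m
    (fun z ν hν => by
      refine IsHomLift.of_fac' 𝒳.p _ _ rfl rfl ?_
      have h1 := congrArg 𝒴.p.map (hm z ν hν)
      rw [Functor.map_comp, StFib.w_map, StFib.w_map] at h1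
      simp only [eqToHom_refl, Category.comp_id, Category.id_comp, g]
      rw [← cancel_mono (eqToHom (f.w_obj x').symm), ← cancel_epi (eqToHom (f.w_obj z))]
      simpa using h1)
    (fun z w k ν hν hkν => f.toFunctor.map_injective (by
      change f.map (m w (k ≫ ν) hkν) = f.map (k ≫ m z ν hν)
      rw [hm, Functor.map_comp, Functor.map_comp, hm, Category.assoc]))
  refine ⟨φ, ?_⟩
  have hM : 𝒴.p.IsHomLift g M :=
    IsHomLift.of_fac 𝒴.p g M (f.w_obj x) (f.w_obj x') rfl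
  have hfφ : 𝒴.p.IsHomLift g (f.map φ) := BasedFunctor.preserves_isHomLift f g φ
  refine hom_ext_lift h𝒴 g hfφ hM R hR fun V k hk z ν hν => ?_
  obtain ⟨x'', hx'', μ, hμ⟩ := grpd_exists_lift h𝒳.1 x k
  have hk' : R (𝒳.p.map μ) := by
    rw [hμ]
    exact R.downward_closed hk _
  obtain ⟨θ, -, hθ⟩ := grpd_exists_fac h𝒴.1 (f.map μ) ν
    (eqToHom ((IsHomLift.domain_eq 𝒴.p k ν).trans (hx''.symm.trans (f.w_obj x'').symm))) (by
      rw [IsHomLift.fac' 𝒴.p k ν, StFib.w_map, hμ]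
      simp)
  rw [← hθ, Category.assoc, Category.assoc, ← Functor.map_comp]
  congr 1
  rw [hφ' μ (by simpa using hk'), hm]

variable {j : 𝒜 ⥤ᵇ ℬ} (sq : LiftSq.Sq j f)

/-- The factorisation given by the top of a square. -/
def topPair (a : 𝒜.obj) : Pair sq.bot f (j.obj a) where
  x := sq.top.obj a
  e := (isoApp sq.iso a).hom
  vert := vert_isoApp sq.iso a

theorem topPair_nat {a' a : 𝒜.obj} (φ : a' ⟶ a) :
    Rel (j.map φ) (topPair sq a') (topPair sq a) :=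
  ⟨sq.top.map φ, (sq.iso.hom.toNatTrans.naturality φ).symm⟩

/-- A compatible family of factorisations extending the top of the square. -/
def IsFamily (σ : ∀ b, Pair sq.bot f b) : Prop :=
  (∀ ⦃b' b : ℬ.obj⦄ (φ : b' ⟶ b), Rel φ (σ b') (σ b)) ∧
    ∀ a, Rel (𝟙 (j.obj a)) (σ (j.obj a)) (topPair sq a)

variable {sq}

theorem nonempty_lift (h𝒳 : IsFibGrpd 𝒳.p) (h𝒴 : IsFibGrpd 𝒴.p) [f.toFunctor.Faithful]
    {σ : ∀ b, Pair sq.bot f b} (hσ : IsFamily sq σ) : Nonempty sq.Lift := by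
  choose ψ hψ using hσ.1
  have hi : ∀ b, IsIso (σ b).e := fun b => (σ b).vert.isIso h𝒴
  have huniq : ∀ {b' b : ℬ.obj} (m m' : (σ b').x ⟶ (σ b).x),
      (σ b').e ≫ f.map m = (σ b').e ≫ f.map m' → m = m' := fun {b' b} m m' h =>
    f.toFunctor.map_injective ((cancel_epi (σ b').e).1 h)
  let F₀ : ℬ.obj ⥤ 𝒳.obj :=
    { obj := fun b => (σ b).x
      map := fun φ => ψ φ
      map_id := fun b => huniq _ _ (by
        rw [hψ, CategoryTheory.Functor.map_id, CategoryTheory.Functor.map_id, Category.comp_id, Category.id_comp])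
      map_comp := fun φ φ' => huniq _ _ (by
        rw [hψ, Functor.map_comp, Functor.map_comp, reassoc_of% (hψ φ), hψ φ', Category.assoc]) }
  let F : ℬ ⥤ᵇ 𝒳 := ⟨F₀, CategoryTheory.Functor.ext (fun b => (σ b).base) fun b b' φ =>
    map_of_eq (hψ φ)⟩
  choose t ht using hσ.2
  have htv : ∀ a, Vert (t a) := fun a => ⟨(σ (j.obj a)).base.trans (topPair sq a).base.symm, by
    rw [map_of_eq (ht a), CategoryTheory.Functor.map_id]; simp⟩
  have hti : ∀ a, IsIso (t a) := fun a => (htv a).isIso h𝒳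
  have ht' : ∀ a, (σ (j.obj a)).e ≫ f.map (t a) = sq.iso.hom.toNatTrans.app a := fun a => by
    rw [ht, CategoryTheory.Functor.map_id, Category.id_comp]; rfl
  refine ⟨{
    fn := F
    isoTop := StFib.isoMk (fun a => asIso (t a)) htv fun {a a'} φ => ?_
    isoBot := StFib.isoMk (fun b => asIso (σ b).e) (fun b => (σ b).vert) fun {b b'} φ => ?_
    w := ?_ }⟩
  · refine f.toFunctor.map_injective ((cancel_epi (σ (j.obj a)).e).1 ?_)
    change (σ (j.obj a)).e ≫ f.map (ψ (j.map φ) ≫ t a') =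
      (σ (j.obj a)).e ≫ f.map (t a ≫ sq.top.map φ)
    rw [Functor.map_comp, Functor.map_comp, reassoc_of% (hψ (j.map φ)), reassoc_of% (ht' a), ht']
    exact sq.iso.hom.toNatTrans.naturality φ
  · exact (hψ φ).symm
  · apply BasedNatTrans.homCategory.ext
    ext a
    exact ht' a

/-- The family of a lift. -/
def liftFam (d : sq.Lift) (b : ℬ.obj) : Pair sq.bot f b where
  x := d.fn.obj b
  e := (isoApp d.isoBot b).hom
  vert := vert_isoApp d.isoBot b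

theorem isFamily_liftFam (d : sq.Lift) : IsFamily sq (liftFam d) := by
  refine ⟨fun b' b φ => ⟨d.fn.map φ, (d.isoBot.hom.toNatTrans.naturality φ).symm⟩, fun a => ?_⟩
  refine ⟨(isoApp d.isoTop a).hom, ?_⟩
  have h := congrArg (fun m => m.toNatTrans.app a) d.w
  rw [CategoryTheory.Functor.map_id, Category.id_comp]
  exact h

theorem uniqLift_of_forall (h𝒳 : IsFibGrpd 𝒳.p) (h𝒴 : IsFibGrpd 𝒴.p) [f.toFunctor.Faithful]
    (H : ∀ σ σ' : ∀ b, Pair sq.bot f b, IsFamily sq σ → IsFamily sq σ' →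
      ∀ b, Rel (𝟙 b) (σ b) (σ' b)) : sq.UniqLift := by
  intro d d'
  have hi : ∀ b, IsIso (liftFam d b).e := fun b => (liftFam d b).vert.isIso h𝒴
  choose ψ hψ using H _ _ (isFamily_liftFam d) (isFamily_liftFam d')
  have hψ' : ∀ b, (liftFam d b).e ≫ f.map (ψ b) = (liftFam d' b).e := fun b => by
    rw [hψ, CategoryTheory.Functor.map_id, Category.id_comp]
  have hlift : ∀ b, 𝒳.p.IsHomLift (𝟙 (ℬ.p.obj b)) (ψ b) := fun b =>
    IsHomLift.of_fac 𝒳.p _ _ (liftFam d b).base (liftFam d' b).base (by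
      rw [map_of_eq (hψ b), CategoryTheory.Functor.map_id]; simp)
  let θ : d.fn ⟶ d'.fn :=
    { toNatTrans :=
        { app := ψ
          naturality := fun b b' φ => by
            refine f.toFunctor.map_injective ((cancel_epi (liftFam d b).e).1 ?_)
            change (liftFam d b).e ≫ f.map (d.fn.map φ ≫ ψ b') =
              (liftFam d b).e ≫ f.map (ψ b ≫ d'.fn.map φ)
            have h1 : (liftFam d b).e ≫ f.map (d.fn.map φ) = sq.bot.map φ ≫ (liftFam d b').e :=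
              (d.isoBot.hom.toNatTrans.naturality φ).symm
            have h2 : (liftFam d' b).e ≫ f.map (d'.fn.map φ) = sq.bot.map φ ≫ (liftFam d' b').e :=
              (d'.isoBot.hom.toNatTrans.naturality φ).symm
            rw [Functor.map_comp, Functor.map_comp, reassoc_of% h1, hψ', reassoc_of% (hψ' b), h2] }
      isHomLift' := hlift }
  refine ⟨⟨⟨{ hom := θ, w_top := ?_, w_bot := ?_ }⟩, fun θ' => ?_⟩⟩
  · apply BasedNatTrans.homCategory.ext
    ext a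
    refine f.toFunctor.map_injective ((cancel_epi (liftFam d (j.obj a)).e).1 ?_)
    change (liftFam d (j.obj a)).e ≫ f.map (ψ (j.obj a) ≫ (isoApp d'.isoTop a).hom) =
      (liftFam d (j.obj a)).e ≫ f.map (isoApp d.isoTop a).hom
    have h1 : (liftFam d (j.obj a)).e ≫ f.map (isoApp d.isoTop a).hom =
        sq.iso.hom.toNatTrans.app a := congrArg (fun m => m.toNatTrans.app a) d.w
    have h2 : (liftFam d' (j.obj a)).e ≫ f.map (isoApp d'.isoTop a).hom =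
        sq.iso.hom.toNatTrans.app a := congrArg (fun m => m.toNatTrans.app a) d'.w
    rw [Functor.map_comp, reassoc_of% (hψ' (j.obj a)), h1, h2]
  · apply BasedNatTrans.homCategory.ext
    ext b
    exact hψ' b
  · apply LiftSq.Sq.Lift.hom_ext
    apply BasedNatTrans.homCategory.ext
    ext b
    refine f.toFunctor.map_injective ((cancel_epi (liftFam d b).e).1 ?_)
    exact (congrArg (fun m => m.toNatTrans.app b) θ'.w_bot).trans (hψ' b).symm

end Groth.Agent.ThetaStack
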